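import Cfsg.Agent.Lib.FTDep.Basic
import Cfsg.Agent.Lib.Signalizer.Embedded
import Cfsg.Agent.Lib.Core.Cores

/-!
# Groups in which cyclic subgroups of even order share normalisers with their subgroups
-/

set_option autoImplicit false
set_option linter.all false

namespace CfsgLib.EvenCyclic

open Subgroup CfsgLib.Signalizer

universe u

/-- Every non-trivial subgroup of a cyclic subgroup of even order has the same normaliser. -/
def Hyp (G : Type*) [Group G] : Prop :=
  ∀ X : Subgroup G, IsCyclic ↥X → Even (Nat.card ↥X) → ∀ Y : Subgroup G, Y ≤ X → Y ≠ ⊥ →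
    normalizer (X : Set G) = normalizer (Y : Set G)

/-- The standing hypotheses. -/
structure Ctx (G : Type u) [Group G] : Prop where
  ft : FTDep.OddSolvable.{u}
  hyp : Hyp G
  radical : ∀ N : Subgroup G, N.Normal → Group.IsSolvable ↥N → N = ⊥

variable {G : Type u} [Group G] [Finite G]

omit [Finite G] in
theorem mem_cent {g t : G} : g ∈ centralizer ({t} : Set G) ↔ g * t = t * g :=
  mem_centralizer_singleton_iff

omit [Finite G] in
/-- A centraliser moves with conjugation. -/
theorem cent_conj (g t x : G) :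
    x ∈ centralizer ({g * t * g⁻¹} : Set G) ↔ g⁻¹ * x * g ∈ centralizer ({t} : Set G) := by
  rw [mem_cent, mem_cent]
  constructor
  · intro h
    calc g⁻¹ * x * g * t = g⁻¹ * (x * (g * t * g⁻¹)) * g := by group
      _ = t * (g⁻¹ * x * g) := by rw [h]; group
  · intro h
    calc x * (g * t * g⁻¹) = g * (g⁻¹ * x * g * t) * g⁻¹ := by group
      _ = g * t * g⁻¹ * x := by rw [h]; group

omit [Finite G] in
theorem normalizer_zpowers_involution {t : G} (ht : orderOf t = 2) :
    normalizer (zpowers t : Set G) = centralizer ({t} : Set G) := by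
  have h2 : ∀ x ∈ zpowers t, x = 1 ∨ x = t := by
    intro x hx
    obtain ⟨k, rfl⟩ := mem_zpowers_iff.mp hx
    rw [← zpow_mod_orderOf, ht]
    rcases Int.emod_two_eq_zero_or_one k with h | h
    · left; push_cast; rw [h, zpow_zero]
    · right; push_cast; rw [h, zpow_one]
  ext g
  rw [mem_cent]
  constructor
  · intro hg
    rcases h2 _ ((mem_normalizer_iff.mp hg t).mp (mem_zpowers t)) with h | h
    · exact absurd (conj_eq_one_iff.mp h) (involution_ne_one ht)
    · exact mul_inv_eq_iff_eq_mul.mp h
  · intro hg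
    refine mem_normalizer_iff.mpr fun x => ⟨fun hx => ?_, fun hx => ?_⟩
    · rcases h2 x hx with rfl | rfl
      · simp
      · rw [hg, mul_inv_cancel_right]; exact mem_zpowers _
    · rcases h2 _ hx with h | h
      · rw [conj_eq_one_iff.mp h]; exact one_mem _
      · have : x = t := by
          calc x = g⁻¹ * (g * x * g⁻¹) * g := by group
            _ = g⁻¹ * (t * g) := by rw [h, mul_assoc]
            _ = t := by rw [← hg, inv_mul_cancel_left]
        rw [this]; exact mem_zpowers _

namespace Ctx

variable (h : Ctx G)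
include h

/-- The key consequence of the hypothesis. -/
theorem norm_eq {t x y : G} (ht : orderOf t = 2) (htx : t ∈ zpowers x) (hy : y ∈ zpowers x)
    (hy1 : y ≠ 1) : normalizer (zpowers y : Set G) = centralizer ({t} : Set G) := by
  have heven : Even (Nat.card ↥(zpowers x)) :=
    even_iff_two_dvd.mpr (ht ▸ Subgroup.orderOf_dvd_natCard _ htx)
  have h1 := h.hyp (zpowers x) inferInstance heven (zpowers y) (zpowers_le.mpr hy)
    (zpowers_ne_bot.mpr hy1)
  have h2 := h.hyp (zpowers x) inferInstance heven (zpowers t) (zpowers_le.mpr htx)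
    (zpowers_ne_bot.mpr (involution_ne_one ht))
  rw [← h1, h2, normalizer_zpowers_involution ht]

theorem cent_le {t x y : G} (ht : orderOf t = 2) (htx : t ∈ zpowers x) (hy : y ∈ zpowers x)
    (hy1 : y ≠ 1) {g : G} (hg : g * y = y * g) : g * t = t * g := by
  rw [← mem_cent, ← h.norm_eq ht htx hy hy1]
  refine centralizer_le_normalizer _ (mem_centralizer_iff.mpr fun z hz => ?_)
  obtain ⟨k, rfl⟩ := mem_zpowers_iff.mp hz
  exact ((show Commute g y from hg).zpow_right k).eq.symm

theorem conj_mem {t x c : G} (ht : orderOf t = 2) (htx : t ∈ zpowers x) (hc : c * t = t * c) :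
    c * x * c⁻¹ ∈ zpowers x := by
  have hx1 : x ≠ 1 := by
    rintro rfl
    simp only [zpowers_one_eq_bot, mem_bot] at htx
    exact involution_ne_one ht htx
  have h1 : c ∈ normalizer (zpowers x : Set G) := by
    rw [h.norm_eq ht htx (mem_zpowers x) hx1]; exact mem_cent.mpr hc
  exact (mem_normalizer_iff.mp h1 x).mp (mem_zpowers x)

/-- An element of odd order commuting with `t` has the centraliser of `t` as its normaliser. -/
theorem odd_norm {t a : G} (ht : orderOf t = 2) (hat : a * t = t * a) (ho : Odd (orderOf a))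
    (ha1 : a ≠ 1) : normalizer (zpowers a : Set G) = centralizer ({t} : Set G) := by
  obtain ⟨n, hn⟩ := ho
  have hc : Commute a t := hat
  have h2 : t ^ 2 = 1 := by rw [← ht, pow_orderOf_eq_one]
  have e1 : (a * t) ^ (2 * n + 1) = t := by
    rw [hc.mul_pow, ← hn, pow_orderOf_eq_one, one_mul, hn, pow_succ, pow_mul, h2, one_pow, one_mul]
  have e2 : (a * t) ^ (2 * n + 2) = a := by
    rw [hc.mul_pow, pow_succ, ← hn, pow_orderOf_eq_one, one_mul,
      show 2 * n + 2 = 2 * (n + 1) by ring, pow_mul, h2, one_pow, mul_one]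
  have m1 : t ∈ zpowers (a * t) := by
    have := pow_mem (mem_zpowers (a * t)) (2 * n + 1); rwa [e1] at this
  have m2 : a ∈ zpowers (a * t) := by
    have := pow_mem (mem_zpowers (a * t)) (2 * n + 2); rwa [e2] at this
  exact h.norm_eq ht m1 m2 ha1

theorem odd_cent_le {t a g : G} (ht : orderOf t = 2) (hat : a * t = t * a) (ho : Odd (orderOf a))
    (ha1 : a ≠ 1) (hg : g * a = a * g) : g * t = t * g := by
  rw [← mem_cent, ← h.odd_norm ht hat ho ha1]
  refine centralizer_le_normalizer _ (mem_centralizer_iff.mpr fun z hz => ?_)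
  obtain ⟨k, rfl⟩ := mem_zpowers_iff.mp hz
  exact ((show Commute g a from hg).zpow_right k).eq.symm

/-- An involution commuting with a non-trivial element of odd order of `C(t)` has the same
centraliser. -/
theorem cent_eq {t e a : G} (ht : orderOf t = 2) (he : orderOf e = 2) (hat : a * t = t * a)
    (hae : a * e = e * a) (ho : Odd (orderOf a)) (ha1 : a ≠ 1) :
    centralizer ({e} : Set G) = centralizer ({t} : Set G) := by
  rw [← h.odd_norm he hae ho ha1, h.odd_norm ht hat ho ha1]

theorem odd_conj_mem {t a c : G} (ht : orderOf t = 2) (hat : a * t = t * a) (ho : Odd (orderOf a))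
    (hc : c * t = t * c) : c * a * c⁻¹ ∈ zpowers a := by
  rcases eq_or_ne a 1 with rfl | ha1
  · simp
  have h1 : c ∈ normalizer (zpowers a : Set G) := by
    rw [h.odd_norm ht hat ho ha1]; exact mem_cent.mpr hc
  exact (mem_normalizer_iff.mp h1 a).mp (mem_zpowers a)

end Ctx

/-- The elements of odd order of `C(t)`. -/
noncomputable def oddPart (t : G) : Subgroup G :=
  (Cfsg.oddCore ↥(centralizer ({t} : Set G))).map (centralizer ({t} : Set G)).subtype

theorem Ctx.mem_oddPart (h : Ctx G) {t x : G} (ht : orderOf t = 2) :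
    x ∈ oddPart t ↔ x * t = t * x ∧ Odd (orderOf x) := by
  constructor
  · rintro ⟨⟨y, hy⟩, hyO, rfl⟩
    refine ⟨mem_cent.mp hy, ?_⟩
    have hd := Subgroup.orderOf_dvd_natCard _ hyO
    rw [← Subgroup.orderOf_coe] at hd
    exact (Nat.coprime_two_right.1 (Core.coprime_card_pPrimeCore 2 _)).of_dvd_nat hd
  · rintro ⟨hxt, ho⟩
    have hxC : x ∈ centralizer ({t} : Set G) := mem_cent.mpr hxt
    refine ⟨⟨x, hxC⟩, ?_, rfl⟩
    set C := centralizer ({t} : Set G)
    haveI : (zpowers (⟨x, hxC⟩ : C)).Normal := by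
      refine ⟨fun z hz c => ?_⟩
      obtain ⟨k, rfl⟩ := mem_zpowers_iff.mp hz
      rw [← conj_zpow]
      refine zpow_mem ?_ k
      obtain ⟨j, hj⟩ := mem_zpowers_iff.mp (h.odd_conj_mem ht hxt ho (mem_cent.mp c.2))
      exact mem_zpowers_iff.mpr ⟨j, Subtype.ext (by simpa using hj)⟩
    refine Core.le_pPrimeCore ?_ (mem_zpowers _)
    rw [Nat.card_zpowers, ← Subgroup.orderOf_coe]
    exact Nat.coprime_two_right.2 ho

theorem Ctx.odd_mul (h : Ctx G) {t a b : G} (ht : orderOf t = 2) (ha : a * t = t * a)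
    (hao : Odd (orderOf a)) (hb : b * t = t * b) (hbo : Odd (orderOf b)) :
    Odd (orderOf (a * b)) :=
  ((h.mem_oddPart ht).mp (mul_mem ((h.mem_oddPart ht).mpr ⟨ha, hao⟩)
    ((h.mem_oddPart ht).mpr ⟨hb, hbo⟩))).2

end CfsgLib.EvenCyclic
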