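import Cfsg.Agent.Lib.OddGated5.EvenCyclic.Exclusion
import Cfsg.Agent.Lib.Transfer.MaximalClass
import Cfsg.Agent.Lib.TwoGroups.DihedralFusion
import Cfsg.Agent.Lib.PGroups.BSW.Zassenhaus

/-!
# Sylow 2-subgroups are dihedral when some centraliser of an involution has an odd part
-/

set_option autoImplicit false
set_option linter.all false

namespace CfsgLib.EvenCyclic

open Subgroup CfsgLib.Signalizer

universe u

variable {G : Type u} [Group G] [Finite G]

/-- A 2-group of maximal class with a non-central involution all whose cyclic subgroups through the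
central involution are normal is dihedral. -/
theorem dihedral_of_shape {P : Type u} [Group P] [Finite P] {n : ℕ} (hn : 3 ≤ n)
    (hP : Nat.card P = 2 ^ n) (hS : Transfer.MCShape P n)
    (hnorm : ∀ c g : P, (∀ z : P, z ∈ center P → orderOf z = 2 → z ∈ zpowers c) →
      g * c * g⁻¹ ∈ zpowers c)
    {t : P} (ht : orderOf t = 2) (htc : t ∉ center P) :
    Nonempty (P ≃* DihedralGroup (2 ^ (n - 1))) := by
  obtain ⟨a, b, ha, hb, hconj, hb2⟩ := hS
  have hC := Transfer.center_eq hn hP ha hb hconj
  set z := a ^ 2 ^ (n - 2) with hz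
  have hzz : z * z = 1 := by rw [← pow_two]; exact Transfer.w_sq (by omega) ha
  have hz1 : z ≠ 1 := fun h => by
    have := orderOf_dvd_of_pow_eq_one (x := a) (n := 2 ^ (n - 2)) h
    rw [ha, Nat.pow_dvd_pow_iff_le_right (by norm_num)] at this
    omega
  have hz2 := orderOf_eq_two_of hz1 hzz
  have huniq : ∀ y : P, y ∈ center P → orderOf y = 2 → y = z := fun y hy hy2 =>
    involution_unique (hC ▸ hy) (mem_zpowers z) hy2 hz2 (isOfFinOrder_of_finite z)
  have hroot : ∀ c : P, c * c = z → ∀ g : P, g * c * g⁻¹ ∈ zpowers c := fun c hc g =>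
    hnorm c g fun y hy hy2 => huniq y hy hy2 ▸ hc ▸ mul_mem (mem_zpowers c) (mem_zpowers c)
  have haz : Commute a z := (Commute.refl a).pow_right _
  -- a root of `z` outside `⟨a⟩` is bounded
  have key : ∀ c : P, c ∉ zpowers a → c * c = z →
      (c⁻¹ * a * c = a⁻¹ ∨ c⁻¹ * a * c = z * a⁻¹) → n = 3 := by
    intro c hc hcc hca
    obtain ⟨k, hk⟩ := mem_zpowers_iff.mp (hroot c hcc a)
    have hzm : z ∈ zpowers a := pow_mem (mem_zpowers a) _
    have hc4 : c ^ (4 : ℤ) = 1 := by
      rw [show (4 : ℤ) = 2 + 2 from rfl, zpow_add, zpow_ofNat, pow_two, hcc, hzz]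
    have hk4 : a * c * a⁻¹ = c ^ (k % 4) := by
      rw [← hk]
      conv_lhs => rw [← Int.emod_add_mul_ediv k 4, zpow_add, zpow_mul, hc4, one_zpow, mul_one]
    have hrat : c⁻¹ * (a * c * a⁻¹) ∈ zpowers a := by
      rw [show c⁻¹ * (a * c * a⁻¹) = c⁻¹ * a * c * a⁻¹ by group]
      rcases hca with h | h <;> rw [h]
      · exact mul_mem (inv_mem (mem_zpowers a)) (inv_mem (mem_zpowers a))
      · exact mul_mem (mul_mem hzm (inv_mem (mem_zpowers a))) (inv_mem (mem_zpowers a))
    have hval : c⁻¹ * (a * c * a⁻¹) = 1 ∨ c⁻¹ * (a * c * a⁻¹) = z := by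
      rw [hk4] at hrat ⊢
      rcases (by omega : k % 4 = 0 ∨ k % 4 = 1 ∨ k % 4 = 2 ∨ k % 4 = 3) with e | e | e | e <;>
        rw [e] at hrat ⊢
      · exact absurd (inv_mem_iff.mp (by simpa using hrat)) hc
      · left; simp
      · exact absurd (by simpa [zpow_ofNat, pow_two] using hrat) hc
      · right
        rw [show c⁻¹ * c ^ (3 : ℤ) = c ^ (2 : ℤ) by group, zpow_ofNat, pow_two, hcc]
    have hfour : a ^ 4 = 1 := by
      rw [show c⁻¹ * (a * c * a⁻¹) = c⁻¹ * a * c * a⁻¹ by group] at hval
      have h2 : a ^ 2 = 1 ∨ a ^ 2 = z := by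
        rcases hca with h | h <;> rw [h] at hval <;> rcases hval with hv | hv
        · left
          rw [← inv_eq_one, ← hv]; group
        · right
          rw [← involution_inv hz2, ← hv]; group
        · right
          calc a ^ 2 = (z * a⁻¹ * a⁻¹)⁻¹ * z := by group
            _ = z := by rw [hv, inv_one, one_mul]
        · left
          calc a ^ 2 = (z * a⁻¹ * a⁻¹)⁻¹ * z := by group
            _ = 1 := by rw [hv, inv_mul_cancel]
      rcases h2 with h | h
      · rw [show (4 : ℕ) = 2 * 2 from rfl, pow_mul, h, one_pow]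
      · rw [show (4 : ℕ) = 2 * 2 from rfl, pow_mul, h, pow_two, hzz]
    have h3 := orderOf_dvd_of_pow_eq_one hfour
    rw [ha, show (4 : ℕ) = 2 ^ 2 from rfl, Nat.pow_dvd_pow_iff_le_right (by norm_num)] at h3
    omega
  have hcard : Nat.card P = 2 * 2 ^ (n - 1) := by
    rw [hP, ← pow_succ']; congr 1; omega
  have hb2' : b * b = 1 ∨ b * b = z := by simpa only [pow_two] using hb2
  have hbab : b⁻¹ * a * b = b * a * b⁻¹ := by
    have hcom : Commute (b * b) a := by
      rcases hb2' with h | h <;> rw [h]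
      exacts [Commute.one_left a, haz.symm]
    calc b⁻¹ * a * b = b⁻¹ * (a * (b * b)) * b⁻¹ := by group
      _ = b * a * b⁻¹ := by rw [← hcom.eq]; group
  rcases hconj with hinv | ⟨h4, hsd⟩
  · rcases hb2' with hb1 | hbz
    · haveI : NeZero (2 ^ (n - 1)) := ⟨pow_ne_zero _ two_ne_zero⟩
      exact CfsgLib.TwoGroups.nonempty_mulEquiv_dihedralGroup ha hb1 hb hinv hcard
    · exfalso
      have h3 := key b hb hbz (Or.inl (hbab.trans hinv))
      subst h3
      -- the quaternion group of order eight has one involution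
      obtain ⟨i, rfl | rfl⟩ := Transfer.exists_pow_or (by norm_num) hP ha hb t
      · exact htc (involution_unique (pow_mem (mem_zpowers a) i) (pow_mem (mem_zpowers a) _) ht hz2
          (isOfFinOrder_of_finite a) ▸ hC ▸ mem_zpowers z)
      · have h1 : b * a ^ i * b⁻¹ = (a ^ i)⁻¹ := by rw [← conj_pow, hinv, inv_pow]
        have h2 := involution_sq ht
        apply hz1
        calc z = b * b := hbz.symm
          _ = (b * a ^ i * b⁻¹) * (b * b) * a ^ i := by
              rw [h1, hbz, mul_assoc, ← (haz.pow_left i).eq, inv_mul_cancel_left]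
          _ = 1 := by rw [← h2]; group
  · exfalso
    have hne : n ≠ 3 := by omega
    rcases hb2' with hb1 | hbz
    · refine hne (key (b * a) (fun h => hb ?_) ?_ (Or.inr ?_))
      · have := mul_mem h (inv_mem (mem_zpowers a)); rwa [mul_inv_cancel_right] at this
      · calc b * a * (b * a) = (b * a * b⁻¹) * (b * b) * a := by group
          _ = z := by rw [hsd, hb1, mul_one, inv_mul_cancel_right]
      · calc (b * a)⁻¹ * a * (b * a) = a⁻¹ * (b⁻¹ * a * b) * a := by group
          _ = a⁻¹ * (z * a⁻¹) * a := by rw [hbab, hsd]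
          _ = z * a⁻¹ := by rw [← mul_assoc a⁻¹ z, haz.inv_left.eq]; group
    · exact hne (key b hb hbz (Or.inr (hbab.trans hsd)))

namespace Wit

variable {t a : G} (w : Wit t a)
include w

/-- A Sylow 2-subgroup is dihedral. -/
theorem exists_dihedral :
    ∃ (S : Sylow 2 G) (m : ℕ), 2 ≤ m ∧ Nonempty ((S : Subgroup G) ≃* DihedralGroup m) := by
  haveI : Fact (Nat.Prime 2) := ⟨Nat.prime_two⟩
  obtain ⟨s, hs, hst, hne⟩ := w.exists_other
  have ht_core : t ∈ core t :=
    w.mem_core_of_zpowers ⟨1, by rw [pow_one]; exact w.ht⟩ (mem_zpowers t)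
  -- a Sylow subgroup `S` with `S ⊓ C(t)` a Sylow subgroup of `C(t)` containing `s`
  set C := centralizer ({t} : Set G) with hC
  obtain ⟨T0, hT0⟩ := (IsPGroup.of_card (p := 2) (n := 1) (G := ↥(zpowers (⟨s, mem_cent.mpr hst⟩ : C)))
    (by rw [Nat.card_zpowers, ← Subgroup.orderOf_coe, pow_one]; exact hs)).exists_le_sylow
  obtain ⟨S, hS⟩ := (T0.2.map C.subtype).exists_le_sylow
  set T := (S : Subgroup G) ⊓ C with hT
  have hsT : s ∈ T := ⟨hS ⟨_, hT0 (mem_zpowers _), rfl⟩, mem_cent.mpr hst⟩
  have htT : t ∈ T := by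
    refine ⟨hS ⟨⟨t, mem_cent.mpr rfl⟩, ?_, rfl⟩, mem_cent.mpr rfl⟩
    -- a central 2-element lies in every Sylow subgroup
    set tC : C := ⟨t, mem_cent.mpr rfl⟩
    have hcen : zpowers tC ≤ center ↥C := zpowers_le.mpr (mem_center_iff.mpr fun c =>
      Subtype.ext (mem_cent.mp c.2))
    haveI : (zpowers tC).Normal := ⟨fun y hy g => by
      rw [mem_center_iff.mp (hcen hy) g, mul_inv_cancel_right]; exact hy⟩
    have hp : IsPGroup 2 ↥(zpowers tC) := IsPGroup.of_card (n := 1)
      (by rw [Nat.card_zpowers, ← Subgroup.orderOf_coe, pow_one]; exact w.ht)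
    have := T0.3 (T0.2.to_sup_of_normal_right hp) le_sup_left
    exact this ▸ mem_sup_right (mem_zpowers tC)
  have hTp : IsPGroup 2 ↥T := S.2.to_le inf_le_left
  set K2 := T ⊓ core t with hK2
  have hK2p : IsPGroup 2 ↥K2 := hTp.to_le inf_le_left
  haveI : IsMulCommutative ↥K2 := ⟨⟨fun x y => Subtype.ext (w.core_comm x.2.2 y.2.2)⟩⟩
  have hcyc : IsCyclic ↥K2 := by
    have huniq : ∀ H L : Subgroup ↥K2, Nat.card H = 2 → Nat.card L = 2 → H = L := by
      have key : ∀ H : Subgroup ↥K2, Nat.card H = 2 →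
          H = zpowers (⟨t, ⟨htT, ht_core⟩⟩ : ↥K2) := by
        intro H hH
        obtain ⟨y, hy⟩ := exists_prime_orderOf_dvd_card' 2 (hH.symm.dvd.trans dvd_rfl : 2 ∣ Nat.card H)
        have hy2 : orderOf ((y : K2) : G) = 2 := by rw [orderOf_coe, orderOf_coe, hy]
        have h1 := w.core_two (y : K2).2.2 ⟨1, by rw [pow_one]; exact hy2⟩ (involution_ne_one hy2)
        have h2 : ((y : K2) : G) = t :=
          involution_unique (mem_zpowers _) h1 hy2 w.ht (isOfFinOrder_of_finite _)
        refine (Subgroup.eq_of_le_of_card_ge (zpowers_le.mpr ?_) ?_).symm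
        · have : (⟨t, ⟨htT, ht_core⟩⟩ : ↥K2) = (y : K2) := Subtype.ext h2.symm
          exact this ▸ y.2
        · rw [hH, Nat.card_zpowers, ← Subgroup.orderOf_coe]; exact w.ht.ge
      exact fun H L hH hL => (key H hH).trans (key L hL).symm
    haveI := Core.UniqueOrderP.isCyclic_of_unique hK2p huniq (⊤ : Subgroup ↥K2)
    exact isCyclic_of_surjective (topEquiv (G := ↥K2)).toMonoidHom topEquiv.surjective
  obtain ⟨⟨g, hgK⟩, hgen⟩ := hcyc.exists_generator
  have hmemK : ∀ y ∈ K2, y ∈ zpowers g := fun y hy => by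
    obtain ⟨k, hk⟩ := mem_zpowers_iff.mp (hgen ⟨y, hy⟩)
    exact mem_zpowers_iff.mpr ⟨k, congrArg Subtype.val hk⟩
  by_cases hST : (S : Subgroup G) ≤ C
  · -- `S = ⟨g, s⟩`
    have hSeq : T = (S : Subgroup G) := inf_eq_left.mpr hST
    have hgS : g ∈ (S : Subgroup G) := hgK.1.1
    have hcard : Nat.card ↥(S : Subgroup G) = 2 * orderOf g := by
      have hb : Function.Bijective (fun x : Bool × ↥(zpowers g) =>
          (⟨(if x.1 then s else 1) * (x.2 : G), mul_mem (by split <;> [exact hsT.1; exact one_mem _])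
            (zpowers_le.mpr hgS x.2.2)⟩ : ↥(S : Subgroup G))) := by
        have hcore : ∀ y ∈ zpowers g, y ∈ core t := fun y hy => zpowers_le.mpr hgK.2 hy
        constructor
        · rintro ⟨b, x⟩ ⟨c, y⟩ h
          have h' : (if b then s else 1) * (x : G) = (if c then s else 1) * (y : G) :=
            congrArg Subtype.val h
          cases b <;> cases c <;> simp only [Bool.false_eq_true, if_false, if_true, one_mul] at h'
          · exact Prod.ext rfl (Subtype.ext h')
          · exact absurd (by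
              have := mul_mem (hcore _ x.2) (inv_mem (hcore _ y.2))
              rwa [h', mul_inv_cancel_right] at this) (w.not_mem_core hs hst hne)
          · exact absurd (by
              have := mul_mem (hcore _ y.2) (inv_mem (hcore _ x.2))
              rwa [← h', mul_inv_cancel_right] at this) (w.not_mem_core hs hst hne)
          · exact Prod.ext rfl (Subtype.ext (mul_left_cancel h'))
        · rintro ⟨y, hy⟩
          have hyC := mem_cent.mp (hST hy)
          rcases w.mem_or hs hst hne hyC with h | h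
          · exact ⟨(false, ⟨y, hmemK y ⟨⟨hy, hST hy⟩, h⟩⟩), Subtype.ext (one_mul y)⟩
          · exact ⟨(true, ⟨s * y, hmemK _ ⟨mul_mem hsT ⟨hy, hST hy⟩, h⟩⟩), Subtype.ext (by
              show s * (s * y) = y
              rw [← mul_assoc, involution_sq hs, one_mul])⟩
      rw [← Nat.card_eq_of_bijective _ hb, Nat.card_prod, Nat.card_zpowers]
      simp
    refine ⟨S, orderOf g, ?_, ?_⟩
    · have := orderOf_dvd_of_mem_zpowers (hmemK t ⟨htT, ht_core⟩)
      rw [w.ht] at this
      exact Nat.le_of_dvd (orderOf_pos g) this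
    · haveI : NeZero (orderOf g) := ⟨(orderOf_pos g).ne'⟩
      refine CfsgLib.TwoGroups.nonempty_mulEquiv_dihedralGroup (a := (⟨g, hgS⟩ : ↥(S : Subgroup G)))
        (b := ⟨s, hsT.1⟩) (Subgroup.orderOf_mk g hgS) (Subtype.ext (involution_sq hs)) (fun h => ?_)
        (Subtype.ext (w.inverts_core hs hst hne hgK.2)) hcard
      obtain ⟨k, hk⟩ := mem_zpowers_iff.mp h
      refine w.not_mem_core hs hst hne ?_
      rw [← show g ^ k = s from congrArg Subtype.val hk]
      exact zpow_mem (show g ∈ core t from hgK.2) k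
  -- otherwise `T` is a self-centralising four group
  haveI : Group.IsNilpotent ↥(S : Subgroup G) := S.2.isNilpotent
  set R := T.subgroupOf (S : Subgroup G) with hR
  have hRt : R ≠ ⊤ := fun h => hST ((subgroupOf_eq_top.mp h).trans inf_le_right)
  obtain ⟨⟨n, hnS⟩, hnN, hnR⟩ := SetLike.exists_of_lt
    (normalizerCondition_of_isNilpotent (G := ↥(S : Subgroup G)) R (lt_top_iff_ne_top.mpr hRt))
  have hK2two : ∀ y ∈ K2, y = 1 ∨ y = t := by
    intro y hy
    rcases eq_or_ne y 1 with h | hy1
    · exact Or.inl h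
    refine Or.inr ?_
    have h2 := two_elem_of_mem hTp hy.1
    have hty := w.core_two hy.2 h2 hy1
    by_cases hy4 : y * y = 1
    · exact involution_unique (mem_zpowers y) hty (orderOf_eq_two_of hy1 hy4) w.ht
        (isOfFinOrder_of_finite y)
    exfalso
    apply hnR
    refine mem_subgroupOf.mpr ⟨hnS, mem_cent.mpr (mul_inv_eq_iff_eq_mul.mp ?_)⟩
    set y' := n * y * n⁻¹ with hy'
    have hy'T : y' ∈ T := mem_subgroupOf.mp ((mem_normalizer_iff.mp hnN ⟨y, hy.1.1⟩).mp
      (mem_subgroupOf.mpr hy.1))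
    have h2' := two_elem_of_mem hTp hy'T
    have hyy : y' * y' ≠ 1 := by
      rw [hy', show n * y * n⁻¹ * (n * y * n⁻¹) = n * (y * y) * n⁻¹ by group]
      exact fun h => hy4 (conj_eq_one_iff.mp h)
    have hy'c : y' ∈ core t := by
      by_contra h
      refine hyy ?_
      rw [← pow_two, ← orderOf_dvd_iff_pow_eq_one,
        w.sq_of_not_mem (mem_cent.mp hy'T.2) h2' h]
    have hty' := w.core_two hy'c h2' (fun h => hyy (by simp [h]))
    obtain ⟨k, hk⟩ := mem_zpowers_iff.mp hty
    exact involution_unique (x := n * t * n⁻¹)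
      (mem_zpowers_iff.mpr ⟨k, by rw [hy', conj_zpow, hk]⟩) hty' ((orderOf_conj n t).trans w.ht) w.ht
      (isOfFinOrder_of_finite y')
  have hTmem : ∀ y ∈ T, y = 1 ∨ y = t ∨ y = s ∨ y = s * t := by
    intro y hy
    rcases w.mem_or hs hst hne (mem_cent.mp hy.2) with h | h
    · rcases hK2two y ⟨hy, h⟩ with e | e
      exacts [Or.inl e, Or.inr (Or.inl e)]
    · rcases hK2two _ ⟨mul_mem hsT hy, h⟩ with e | e
      · exact Or.inr (Or.inr (Or.inl (by rw [eq_inv_of_mul_eq_one_right e, involution_inv hs])))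
      · exact Or.inr (Or.inr (Or.inr (by rw [← e, ← mul_assoc, involution_sq hs, one_mul])))
  have hsl : s ≠ 1 := involution_ne_one hs
  have htl : t ≠ 1 := involution_ne_one w.ht
  have hst1 : s * t ≠ 1 := fun e => hne (by rw [mul_eq_one_iff_eq_inv.mp e, involution_inv w.ht])
  have hst2 : s * t ≠ t := fun e => hsl (mul_eq_right.mp e)
  have hst3 : s * t ≠ s := fun e => htl (mul_eq_left.mp e)
  obtain ⟨j, hj⟩ := IsPGroup.iff_card.mp S.2
  set A : Subgroup ↥(S : Subgroup G) := T.subgroupOf (S : Subgroup G) with hA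
  have hAcard : Nat.card A = 2 ^ 2 := by
    rw [Nat.card_congr (Subgroup.subgroupOfEquivOfLe (inf_le_left : T ≤ (S : Subgroup G))).toEquiv]
    classical
    haveI := Fintype.ofFinite G
    rw [Nat.card_eq_fintype_card, Fintype.card_of_subtype ({1, t, s, s * t} : Finset G)]
    · rw [Finset.card_insert_of_notMem, Finset.card_insert_of_notMem, Finset.card_pair hst3.symm]
      · norm_num
      · simp [hne.symm, hst2.symm]
      · simp [htl.symm, hsl.symm, hst1.symm]
    · intro y
      simp only [Finset.mem_insert, Finset.mem_singleton]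
      constructor
      · rintro (rfl | rfl | rfl | rfl)
        exacts [one_mem _, htT, hsT, mul_mem hsT htT]
      · exact hTmem y
  have hAc : centralizer (A : Set ↥(S : Subgroup G)) = A := by
    refine le_antisymm (fun y hy => mem_subgroupOf.mpr (Subgroup.mem_inf.mpr ⟨y.2, mem_cent.mpr ?_⟩)) (fun y hy => ?_)
    · exact (congrArg Subtype.val (mem_centralizer_iff.mp hy ⟨t, htT.1⟩ (mem_subgroupOf.mpr htT))).symm
    · refine mem_centralizer_iff.mpr fun x hx => Subtype.ext ?_
      have hc : ∀ u v : G, u ∈ T → v ∈ T → u * v = v * u := by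
        intro u v hu hv
        have cst : Commute s t := hst
        have gen : ∀ r : G, Commute r t → Commute r s → ∀ v ∈ T, Commute r v := by
          intro r h1 h2 v hv
          rcases hTmem v hv with e | e | e | e <;> rw [e]
          exacts [Commute.one_right r, h1, h2, h2.mul_right h1]
        have h1 := gen t (Commute.refl t) cst.symm u hu
        have h2 := gen s cst (Commute.refl s) u hu
        exact (gen u h1.symm h2.symm v hv).eq
      exact hc _ _ (mem_subgroupOf.mp hx) (mem_subgroupOf.mp hy)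
  have hj3 : 3 ≤ j := by
    by_contra hlt
    refine hST ?_
    have hle : (S : Subgroup G) ≤ T := by
      have := Subgroup.eq_top_of_le_card A (by
        rw [hAcard, hj]; exact Nat.pow_le_pow_right two_pos (by omega))
      exact subgroupOf_eq_top.mp this
    exact hle.trans inf_le_right
  have hcl := Transfer.class_eq_of_self_centralizing j ↥(S : Subgroup G) hj A hAcard hAc
  refine ⟨S, 2 ^ (j - 1), le_trans (by norm_num) (Nat.pow_le_pow_right two_pos (by omega : 1 ≤ j - 1)),
    dihedral_of_shape hj3 hj (Transfer.shape_of_class hj3 hj hcl) (fun c g hc => ?_)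
      (t := (⟨t, htT.1⟩ : ↥(S : Subgroup G))) (by rw [Subgroup.orderOf_mk]; exact w.ht) (fun h => hST
        fun y hy => mem_cent.mpr (congrArg Subtype.val (mem_center_iff.mp h ⟨y, hy⟩)))⟩
  -- cyclic subgroups through the central involution are normal
  · haveI : Nontrivial ↥(S : Subgroup G) := Finite.one_lt_card_iff_nontrivial.mp
      (by rw [hj]; exact Nat.one_lt_two_pow (by omega))
    have hne' := S.2.center_nontrivial
    obtain ⟨z, hzmem, hz2⟩ := exists_involution_of_two_group (S.2.to_subgroup (center _))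
      ((Subgroup.nontrivial_iff_ne_bot _).mp hne')
    obtain ⟨k, hk⟩ := mem_zpowers_iff.mp (hc z hzmem hz2)
    obtain ⟨i, hi⟩ := mem_zpowers_iff.mp (w.ctx.conj_mem (t := (z : G)) (x := (c : G)) (c := (g : G))
      (by rw [Subgroup.orderOf_coe]; exact hz2)
      (mem_zpowers_iff.mpr ⟨k, congrArg Subtype.val hk⟩)
      (congrArg Subtype.val (mem_center_iff.mp hzmem g)))
    exact mem_zpowers_iff.mpr ⟨i, Subtype.ext hi⟩

/-- In a simple group this gives a group `PSL(2, q)`, `q` odd. -/
theorem exists_psl [IsSimpleGroup G] (hG : ¬ IsMulCommutative G) :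
    ∃ (F : Type) (_ : Field F) (_ : Fintype F), Odd (Fintype.card F) ∧
      Nonempty (G ≃* Matrix.ProjectiveSpecialLinearGroup (Fin 2) F) := by
  obtain ⟨S, m, hm, ⟨e⟩⟩ := w.exists_dihedral
  obtain ⟨n, f, hn, hcard, hf, hS⟩ := CfsgLib.TwoGroups.Dihedral.exists_model hm e
  have hnoidx : ∀ H : Subgroup G, H.index ≠ 2 := fun H hH => by
    haveI := Subgroup.normal_of_index_eq_two hH
    rcases (inferInstance : H.Normal).eq_bot_or_eq_top with h | h
    · rw [h, Subgroup.index_bot] at hH
      haveI : Fact (Nat.Prime 2) := ⟨Nat.prime_two⟩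
      haveI := isCyclic_of_prime_card (α := G) (p := 2) hH
      exact hG ⟨⟨fun x y => IsCyclic.commGroup.mul_comm x y⟩⟩
    · rw [h, Subgroup.index_top] at hH; omega
  obtain ⟨s, K, cfg⟩ := w.config
    (CfsgLib.TwoGroups.Dihedral.all_conj_of_no_index_two hf hS hn hnoidx)
  haveI := Fintype.ofFinite G
  obtain ⟨Q, D, hc⟩ := cfg.main
  exact hc.exists_psl

end Wit

end CfsgLib.EvenCyclic
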