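import Cfsg.Agent.Lib.OddGated5.EvenCyclic.Basic
import Cfsg.Agent.Lib.TwoGroups.StrongEmbedding

/-!
# Two involutions centralising an element of odd order give a strongly embedded subgroup
-/

set_option autoImplicit false
set_option linter.all false

namespace CfsgLib.EvenCyclic

open Subgroup CfsgLib.Signalizer

universe u

variable {G : Type u} [Group G] [Finite G]

/-- Two involutions centralising the element `a` of odd order. -/
structure Pair (t e a : G) : Prop where
  ctx : Ctx G
  ht : orderOf t = 2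
  he : orderOf e = 2
  ne : e ≠ t
  hat : a * t = t * a
  hae : a * e = e * a
  ho : Odd (orderOf a)
  ha1 : a ≠ 1

/-- The involutions with the same centraliser as `t`. -/
def Same (t x : G) : Prop :=
  orderOf x = 2 ∧ centralizer ({x} : Set G) = centralizer ({t} : Set G)

/-- The normaliser of `C(t)`. -/
def envelope (t : G) : Subgroup G :=
  normalizer ((centralizer ({t} : Set G) : Subgroup G) : Set G)

namespace Pair

variable {t e a : G} (p : Pair t e a)
include p

theorem same_t : Same t t := ⟨p.ht, rfl⟩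

theorem same_e : Same t e := ⟨p.he, p.ctx.cent_eq p.ht p.he p.hat p.hae p.ho p.ha1⟩

/-- An element of `C(t)` commutes with every element of `Same t`. -/
theorem same_comm {x c : G} (hx : Same t x) (hc : c * t = t * c) : c * x = x * c :=
  mem_cent.mp (hx.2 ▸ mem_cent.mpr hc)

theorem a_comm {x : G} (hx : Same t x) : a * x = x * a := p.same_comm hx p.hat

theorem same_commute {x y : G} (hx : Same t x) (hy : Same t y) : x * y = y * x := by
  refine (p.same_comm hy ?_)
  exact (p.same_comm hx rfl).symm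

theorem same_mul {x y : G} (hx : Same t x) (hy : Same t y) (hne : x ≠ y) : Same t (x * y) := by
  have h2 : orderOf (x * y) = 2 := by
    refine orderOf_eq_two_of (fun h => hne ?_) ?_
    · rw [mul_eq_one_iff_eq_inv.mp h, involution_inv hy.1]
    · rw [mul_assoc, ← mul_assoc y, ← p.same_commute hx hy, mul_assoc, involution_sq hy.1, mul_one,
        involution_sq hx.1]
  refine ⟨h2, p.ctx.cent_eq p.ht h2 p.hat ?_ p.ho p.ha1⟩
  rw [← mul_assoc, p.a_comm hx, mul_assoc, p.a_comm hy, mul_assoc]

theorem t_comm_e : t * e = e * t := p.same_commute p.same_t p.same_e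

theorem same_te : Same t (t * e) := p.same_mul p.same_t p.same_e p.ne.symm

/-- An involution of `C(t)` outside `Same t` centralises no element of odd order of `C(t)`. -/
theorem same_of_odd {f b : G} (hf : orderOf f = 2) (hb : b * t = t * b) (hbf : b * f = f * b)
    (hbo : Odd (orderOf b)) (hb1 : b ≠ 1) : Same t f :=
  ⟨hf, p.ctx.cent_eq p.ht hf hb hbf hbo hb1⟩

/-- For such an involution the centraliser is a 2-group. -/
theorem cent_other {f : G} (hf : orderOf f = 2) (hft : f * t = t * f) (hns : ¬ Same t f) {b : G}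
    (hbf : b * f = f * b) (hbo : Odd (orderOf b)) : b = 1 := by
  by_contra hb1
  -- every member of `Same t` inverts `b`
  have hinv : ∀ x, Same t x → x * b * x⁻¹ = b⁻¹ := by
    intro x hx
    have hxf : x * f = f * x := (p.same_comm hx hft).symm
    obtain ⟨k, hk⟩ := mem_zpowers_iff.mp (p.ctx.odd_conj_mem hf hbf hbo hxf)
    set c := b * (x * b * x⁻¹) with hc
    have hcz : c = b ^ (1 + k) := by rw [hc, ← hk, zpow_add, zpow_one]
    have hco : Odd (orderOf c) := by
      refine hbo.of_dvd_nat ?_
      rw [hcz]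
      exact orderOf_dvd_of_mem_zpowers (mem_zpowers_iff.mpr ⟨_, rfl⟩)
    have hcf : c * f = f * c := by
      rw [hcz]; exact ((show Commute b f from hbf).zpow_left _).eq
    have hcx : c * x = x * c := by
      have h1 : x * b * x⁻¹ * b = b * (x * b * x⁻¹) := by
        rw [← hk]; exact ((Commute.refl b).zpow_left k).eq
      rw [hc]
      calc b * (x * b * x⁻¹) * x = b * (x * b) := by group
        _ = x * (x * b * x⁻¹ * b) := by
            rw [show x * (x * b * x⁻¹ * b) = x * x * (b * x⁻¹ * b) by group, involution_sq hx.1,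
              one_mul, involution_inv hx.1, mul_assoc]
        _ = x * (b * (x * b * x⁻¹)) := by rw [h1]
    have hct : c * t = t * c :=
      mem_cent.mp (hx.2 ▸ mem_cent.mpr hcx)
    by_contra hne
    refine hns (p.same_of_odd hf hct hcf hco fun hc1 => hne ?_)
    exact eq_inv_of_mul_eq_one_right hc1
  have h1 := hinv t p.same_t
  have h2 := hinv e p.same_e
  have hte : (t * e) * b * (t * e)⁻¹ = b := by
    calc (t * e) * b * (t * e)⁻¹ = t * (e * b * e⁻¹) * t⁻¹ := by group
      _ = b := by rw [h2, ← conj_inv, h1, inv_inv]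
  have hbt : b * t = t * b :=
    mem_cent.mp (p.same_te.2 ▸ mem_cent.mpr (mul_inv_eq_iff_eq_mul.mp hte).symm)
  exact hns (p.same_of_odd hf hbt hbf hbo hb1)

theorem isPGroup_other {f : G} (hf : orderOf f = 2) (hft : f * t = t * f) (hns : ¬ Same t f) :
    IsPGroup 2 ↥(centralizer ({f} : Set G)) := by
  refine IsPGroup.iff_card.mpr ⟨(Nat.card ↥(centralizer ({f} : Set G))).primeFactorsList.length, ?_⟩
  refine Nat.eq_prime_pow_of_unique_prime_dvd Nat.card_pos.ne' ?_
  intro q hq hqd
  haveI := Fact.mk hq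
  by_contra hq2
  obtain ⟨⟨b, hb⟩, hbo⟩ := exists_prime_orderOf_dvd_card' q hqd
  rw [Subgroup.orderOf_mk] at hbo
  have : b = 1 := p.cent_other hf hft hns (mem_cent.mp hb) (hbo ▸ hq.odd_of_ne_two hq2)
  rw [this, orderOf_one] at hbo
  exact hq.ne_one hbo.symm

omit p in
theorem mem_envelope {g : G} :
    g ∈ envelope t ↔ ∀ x, x * t = t * x ↔ g * x * g⁻¹ * t = t * (g * x * g⁻¹) := by
  rw [envelope, mem_normalizer_iff]
  simp only [SetLike.mem_coe, mem_cent]

omit p in
/-- An element mapping `t` into `Same t` lies in the envelope. -/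
theorem mem_envelope_of_same {g : G} (h : Same t (g * t * g⁻¹)) : g ∈ envelope t := by
  refine mem_envelope.mpr fun x => ?_
  rw [← mem_cent, ← mem_cent]
  conv_rhs => rw [← h.2, cent_conj, show g⁻¹ * (g * x * g⁻¹) * g = x by group]

omit p in
theorem same_conj {g x : G} (hg : g ∈ envelope t) (hx : Same t x) : Same t (g * x * g⁻¹) := by
  refine ⟨(orderOf_conj g x).trans hx.1, ?_⟩
  ext y
  rw [cent_conj, hx.2, mem_cent, mem_cent, mem_envelope.mp hg,
    show g * (g⁻¹ * y * g) * g⁻¹ = y by group]

omit p [Finite G] in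
theorem le_envelope : centralizer ({t} : Set G) ≤ envelope t := le_normalizer

/-- The involutions of the envelope lie in `C(t)`. -/
theorem comm_of_mem {f : G} (hf : orderOf f = 2) (hfM : f ∈ envelope t) : f * t = t * f := by
  have hS := same_conj hfM p.same_t
  by_cases h : f * t * f⁻¹ = t
  · exact mul_inv_eq_iff_eq_mul.mp h
  have hy := p.same_mul p.same_t hS (Ne.symm h)
  have hfy : f * (t * (f * t * f⁻¹)) = (t * (f * t * f⁻¹)) * f := by
    have h3 : f * (f * t * f⁻¹) = t * f := by
      rw [← mul_assoc, ← mul_assoc, involution_sq hf, one_mul, involution_inv hf]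
    calc f * (t * (f * t * f⁻¹)) = (f * t * f⁻¹) * (f * (f * t * f⁻¹)) := by group
      _ = (f * t * f⁻¹) * (t * f) := by rw [h3]
      _ = t * (f * t * f⁻¹) * f := by rw [← mul_assoc, p.same_commute hS p.same_t]
  exact mem_cent.mp (hy.2 ▸ mem_cent.mpr hfy)

/-- Centralisers of involutions of the envelope stay in it. -/
theorem cent_le_envelope {f : G} (hf : orderOf f = 2) (hfM : f ∈ envelope t) :
    centralizer ({f} : Set G) ≤ envelope t := by
  by_cases hs : Same t f
  · rw [hs.2]; exact le_envelope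
  have hft := p.comm_of_mem hf hfM
  set P := centralizer ({f} : Set G)
  by_contra hle
  haveI : Group.IsNilpotent ↥P := (p.isPGroup_other hf hft hs).isNilpotent
  set R := (envelope t).subgroupOf P with hR
  have hRt : R ≠ ⊤ := fun h => hle (subgroupOf_eq_top.mp h)
  have hlt := normalizerCondition_of_isNilpotent (G := ↥P) R (lt_top_iff_ne_top.mpr hRt)
  obtain ⟨⟨n, hnP⟩, hnN, hnR⟩ := SetLike.exists_of_lt hlt
  refine hnR (mem_subgroupOf.mpr (mem_envelope_of_same ?_))
  have htP : t ∈ P := mem_cent.mpr hft.symm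
  have h1 := (mem_normalizer_iff.mp hnN ⟨t, htP⟩).mp
    (mem_subgroupOf.mpr (le_envelope (mem_cent.mpr rfl)))
  have hmem : n * t * n⁻¹ ∈ envelope t := mem_subgroupOf.mp h1
  have h2 : orderOf (n * t * n⁻¹) = 2 := (orderOf_conj n t).trans p.ht
  by_contra hns
  have := p.cent_other h2 (p.comm_of_mem h2 hmem) hns (b := n * a * n⁻¹) ?_
    (by rw [orderOf_conj]; exact p.ho)
  · exact p.ha1 (conj_eq_one_iff.mp this)
  · calc n * a * n⁻¹ * (n * t * n⁻¹) = n * (a * t) * n⁻¹ := by group
      _ = n * t * n⁻¹ * (n * a * n⁻¹) := by rw [p.hat]; group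

theorem envelope_ne_top : envelope t ≠ ⊤ := by
  intro htop
  have hn : (oddPart t).Normal := by
    refine ⟨fun x hx g => ?_⟩
    rw [p.ctx.mem_oddPart p.ht] at hx ⊢
    refine ⟨?_, by rw [orderOf_conj]; exact hx.2⟩
    exact (mem_envelope.mp (show g ∈ envelope t by rw [htop]; exact mem_top _) x).mp hx.1
  have hodd : Odd (Nat.card ↥(oddPart t)) := by
    rw [oddPart, Subgroup.card_map_of_injective (Subgroup.subtype_injective _)]
    exact Nat.coprime_two_right.1 (Core.coprime_card_pPrimeCore 2 _)
  have hmem : a ∈ oddPart t := (p.ctx.mem_oddPart p.ht).mpr ⟨p.hat, p.ho⟩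
  rw [p.ctx.radical _ hn (p.ctx.ft _ hodd), mem_bot] at hmem
  exact p.ha1 hmem

/-- Every involution of the envelope is in `Same t`. -/
theorem same_of_mem {f : G} (hf : orderOf f = 2) (hfM : f ∈ envelope t) : Same t f := by
  by_contra hns
  have hft := p.comm_of_mem hf hfM
  apply p.envelope_ne_top
  rw [eq_top_iff]
  intro g _
  apply mem_envelope_of_same
  set t' := g * t * g⁻¹ with ht'
  have h2 : orderOf t' = 2 := (orderOf_conj g t).trans p.ht
  have ha' : g * a * g⁻¹ * t' = t' * (g * a * g⁻¹) := by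
    rw [ht']
    calc g * a * g⁻¹ * (g * t * g⁻¹) = g * (a * t) * g⁻¹ := by group
      _ = g * t * g⁻¹ * (g * a * g⁻¹) := by rw [p.hat]; group
  have hnc : ¬ IsConj t' f := by
    intro hc
    obtain ⟨d, hd⟩ := isConj_iff.mp hc
    have hb := p.cent_other hf hft hns (b := d * (g * a * g⁻¹) * d⁻¹) ?_
      (by rw [orderOf_conj, orderOf_conj]; exact p.ho)
    · exact p.ha1 (conj_eq_one_iff.mp (conj_eq_one_iff.mp hb))
    · rw [← hd]
      calc d * (g * a * g⁻¹) * d⁻¹ * (d * t' * d⁻¹) = d * (g * a * g⁻¹ * t') * d⁻¹ := by group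
        _ = d * t' * d⁻¹ * (d * (g * a * g⁻¹) * d⁻¹) := by rw [ha']; group
  obtain ⟨u, hu, hut, huf⟩ := exists_central_involution_of_not_conj h2 hf hnc
  have huM : u ∈ envelope t := p.cent_le_envelope hf hfM (mem_cent.mpr huf)
  have htM : t' ∈ envelope t := p.cent_le_envelope hu huM (mem_cent.mpr hut.symm)
  by_contra hns'
  have := p.cent_other h2 (p.comm_of_mem h2 htM) hns' ha' (by rw [orderOf_conj]; exact p.ho)
  exact p.ha1 (conj_eq_one_iff.mp this)

theorem stronglyEmbedded : Cfsg.IsStronglyEmbedded (envelope t) := by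
  rw [stronglyEmbedded_iff_conj]
  refine ⟨p.envelope_ne_top, ?_, fun x hx hx2 g hg => ?_⟩
  · exact even_iff_two_dvd.mpr
      (p.ht ▸ Subgroup.orderOf_dvd_natCard _ (le_envelope (mem_cent.mpr rfl)))
  · have hS := p.same_of_mem hx2 hx
    have hS' := p.same_of_mem ((orderOf_conj g x).trans hx2) hg
    apply mem_envelope_of_same
    refine ⟨(orderOf_conj g t).trans p.ht, ?_⟩
    rw [← hS'.2]
    ext y
    rw [cent_conj, cent_conj, hS.2]

/-- Centralisers of the non-trivial elements of `C(t)` lie in it. -/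
theorem cent_sub {c g : G} (hc : c * t = t * c) (hc1 : c ≠ 1) (hg : g * c = c * g) :
    g * t = t * g := by
  rcases Nat.even_or_odd (orderOf c) with hev | hod
  · obtain ⟨m, hm⟩ := hev
    have hm0 : m ≠ 0 := fun h => by
      rw [h] at hm
      exact (orderOf_pos c).ne' hm
    have h2 : orderOf (c ^ m) = 2 := by
      rw [orderOf_pow, hm, Nat.gcd_eq_right ⟨2, by ring⟩, ← mul_two]
      exact Nat.mul_div_cancel_left _ (Nat.pos_of_ne_zero hm0)
    have hS := p.same_of_mem h2 (le_envelope (mem_cent.mpr ((show Commute c t from hc).pow_left m).eq))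
    exact mem_cent.mp (hS.2 ▸ mem_cent.mpr ((show Commute g c from hg).pow_right m).eq)
  · exact p.ctx.odd_cent_le p.ht hc hod hc1 hg

/-- `C(t)` meets its other conjugates trivially. -/
theorem inter_conj {c g : G} (hg : g ∉ envelope t) (hc : c * t = t * c)
    (hc' : (g⁻¹ * c * g) * t = t * (g⁻¹ * c * g)) : c = 1 := by
  by_contra hc1
  apply hg
  have hcg : g⁻¹ * c * g ≠ 1 := fun h => hc1 (by
    calc c = g * (g⁻¹ * c * g) * g⁻¹ := by group
      _ = 1 := by rw [h]; group)
  -- `C(t) = C(g t g⁻¹)` as both contain the centraliser of `c` and are centralisers of involutions in it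
  have htc : t * c = c * t := hc.symm
  have h1 : (g * t * g⁻¹) * c = c * (g * t * g⁻¹) := by
    calc (g * t * g⁻¹) * c = g * (t * (g⁻¹ * c * g)) * g⁻¹ := by group
      _ = c * (g * t * g⁻¹) := by rw [← hc']; group
  have hmem : g * t * g⁻¹ * t = t * (g * t * g⁻¹) := p.cent_sub hc hc1 h1
  exact mem_envelope_of_same
    (p.same_of_mem ((orderOf_conj g t).trans p.ht) (le_envelope (mem_cent.mpr hmem)))

end Pair

end CfsgLib.EvenCyclic
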