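import Cfsg.Agent.Lib.OddGated5.EvenCyclic.Inverting

/-!
# Elements of `C(t)` outside the core are involutions on the 2-part
-/

set_option autoImplicit false
set_option linter.all false

namespace CfsgLib.EvenCyclic

open Subgroup CfsgLib.Signalizer

universe u

variable {G : Type u} [Group G] [Finite G]

/-- A 2-element of `C(t)` outside the core of order at least four, with the involution `v` among its
powers. -/
structure Long (t a x v : G) : Prop where
  w : Wit t a
  hxt : x * t = t * x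
  h2 : ∃ k : ℕ, orderOf x = 2 ^ k
  hx4 : 4 ≤ orderOf x
  hx : x ∉ core t
  hv : orderOf v = 2
  hvx : v ∈ zpowers x

namespace Long

variable {t a x v : G} (L : Long t a x v)
include L

theorem vt : v * t = t * v := by
  obtain ⟨k, hk⟩ := mem_zpowers_iff.mp L.hvx
  rw [← hk]; exact ((show Commute x t from L.hxt).zpow_left k).eq

theorem v_ne : v ≠ t := fun h => L.hx (L.w.mem_core_of_zpowers L.h2 (h ▸ L.hvx))

/-- The core has no element of order four. -/
theorem core_sq {u : G} (hu : u ∈ core t) (hu2 : ∃ k : ℕ, orderOf u = 2 ^ k) : u * u = 1 := by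
  by_contra hne
  have hu1 : u ≠ 1 := fun h => hne (by simp [h])
  have htu := L.w.core_two hu hu2 hu1
  have hinv := L.w.inverts_two L.hv L.vt L.v_ne hu2 htu
  obtain ⟨r, hr⟩ := mem_zpowers_iff.mp (L.w.ctx.conj_mem L.w.ht htu L.hxt)
  obtain ⟨m, hm⟩ := L.h2
  have hm2 : 2 ≤ m := by
    rcases m with _ | _ | m
    · have := L.hx4; rw [hm] at this; norm_num at this
    · have := L.hx4; rw [hm] at this; norm_num at this
    · omega
  have hvp : v = x ^ 2 ^ (m - 1) := by
    have h1 : orderOf (x ^ 2 ^ (m - 1)) = 2 := by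
      rw [orderOf_pow_of_dvd (by positivity) (hm ▸ pow_dvd_pow 2 (Nat.sub_le m 1)), hm,
        Nat.pow_div (Nat.sub_le m 1) two_pos, show m - (m - 1) = 1 by omega, pow_one]
    exact involution_unique L.hvx (pow_mem (mem_zpowers x) _) L.hv h1 (isOfFinOrder_of_finite x)
  have h3 := CfsgLib.Core.UniqueOrderP.conj_pow_zpow hr.symm (2 ^ (m - 1))
  rw [← hvp, hinv] at h3
  -- `r ^ (2 ^ (m - 1))` is a square, hence `1` modulo `4`
  have h4 : (orderOf u : ℤ) ∣ r ^ (2 ^ (m - 1)) + 1 := by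
    rw [orderOf_dvd_iff_zpow_eq_one, zpow_add_one, ← h3, inv_mul_cancel]
  have h4' : (4 : ℤ) ∣ r ^ (2 ^ (m - 1)) + 1 := by
    refine dvd_trans ?_ h4
    obtain ⟨k, hk⟩ := hu2
    have : 2 ≤ k := by
      by_contra hlt
      refine hne ?_
      have : u ^ 2 = 1 := orderOf_dvd_iff_pow_eq_one.mp (hk ▸ by
        rcases (by omega : k = 0 ∨ k = 1) with rfl | rfl <;> norm_num)
      rwa [pow_two] at this
    rw [hk]
    exact_mod_cast pow_dvd_pow 2 this
  obtain ⟨c, hc⟩ : ∃ c, r ^ (2 ^ (m - 1)) = c * c := ⟨r ^ (2 ^ (m - 2)), by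
    rw [← pow_add]; congr 1; rw [← two_mul, ← pow_succ']; congr 1; omega⟩
  rw [hc] at h4'
  have h5 : ((c * c + 1 : ℤ) : ZMod 4) = 0 := (ZMod.intCast_zmod_eq_zero_iff_dvd _ 4).mpr h4'
  push_cast at h5
  exact (by decide : ∀ y : ZMod 4, y * y + 1 ≠ 0) _ h5

theorem mem_two {u : G} (hu : u ∈ core t) (hu2 : ∃ k : ℕ, orderOf u = 2 ^ k) : u = 1 ∨ u = t := by
  rcases eq_or_ne u 1 with h | h
  · exact Or.inl h
  · exact Or.inr (involution_unique (mem_zpowers u) (L.w.core_two hu hu2 h)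
      (orderOf_eq_two_of h (L.core_sq hu hu2)) L.w.ht (isOfFinOrder_of_finite u))

/-- `vt`. -/
theorem tv_inv : orderOf (t * v) = 2 ∧ (t * v) * t = t * (t * v) ∧ t * v ≠ t := by
  refine ⟨orderOf_eq_two_of (fun h => L.v_ne ?_) ?_, by rw [mul_assoc, L.vt], fun h =>
    involution_ne_one L.hv (mul_eq_left.mp h)⟩
  · rw [eq_inv_of_mul_eq_one_right h, involution_inv L.w.ht]
  · rw [mul_assoc, ← mul_assoc v, L.vt, mul_assoc, involution_sq L.hv, mul_one,
      involution_sq L.w.ht]

end Long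

/-- A 2-element of a group with a normal subgroup. -/
theorem two_elem_of_mem {T : Subgroup G} (hT : IsPGroup 2 ↥T) {y : G} (hy : y ∈ T) :
    ∃ k : ℕ, orderOf y = 2 ^ k := by
  obtain ⟨k, hk⟩ := IsPGroup.iff_orderOf.mp hT ⟨y, hy⟩
  exact ⟨k, by rwa [Subgroup.orderOf_mk] at hk⟩

namespace Long

variable {t a x v : G} (L : Long t a x v)
include L

variable {T : Subgroup G} (hT : IsPGroup 2 ↥T) (hTC : T ≤ centralizer ({t} : Set G)) (hxT : x ∈ T)
  (htT : t ∈ T)
include hT hTC

/-- The commutator of two elements of `T` is `1` or `t`. -/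
theorem commutator_mem {y z : G} (hy : y ∈ T) (hz : z ∈ T) :
    y * z * y⁻¹ * z⁻¹ = 1 ∨ y * z * y⁻¹ * z⁻¹ = t := by
  refine L.mem_two (L.w.mem_core.mpr ⟨mem_cent.mp (mul_mem (mul_mem (mul_mem (hTC hy) (hTC hz))
    (inv_mem (hTC hy))) (inv_mem (hTC hz))), fun b hb hbo => ?_⟩)
    (two_elem_of_mem hT (mul_mem (mul_mem (mul_mem hy hz) (inv_mem hy)) (inv_mem hz)))
  -- automorphisms of a cyclic group commute
  obtain ⟨i, hi⟩ := mem_zpowers_iff.mp (L.w.ctx.odd_conj_mem L.w.ht hb hbo (mem_cent.mp (hTC hy)))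
  obtain ⟨j, hj⟩ := mem_zpowers_iff.mp (L.w.ctx.odd_conj_mem L.w.ht hb hbo (mem_cent.mp (hTC hz)))
  have e1 : (y * z) * b * (y * z)⁻¹ = b ^ (i * j) := by
    rw [show y * z * b * (y * z)⁻¹ = y * (z * b * z⁻¹) * y⁻¹ by group, ← hj, ← conj_zpow, ← hi,
      ← zpow_mul]
  have e2 : (z * y) * b * (z * y)⁻¹ = b ^ (i * j) := by
    rw [show z * y * b * (z * y)⁻¹ = z * (y * b * y⁻¹) * z⁻¹ by group, ← hi, ← conj_zpow, ← hj,
      ← zpow_mul, mul_comm]
  have e3 : (y * z * y⁻¹ * z⁻¹) * ((z * y) * b * (z * y)⁻¹) * (y * z * y⁻¹ * z⁻¹)⁻¹ =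
      (y * z) * b * (y * z)⁻¹ := by group
  rw [e1, e2] at e3
  -- `b` is a power of `b ^ (i * j)`
  have hcb : Commute (y * z * y⁻¹ * z⁻¹) (b ^ (i * j)) := mul_inv_eq_iff_eq_mul.mp e3
  have hmem : b ∈ zpowers (b ^ (i * j)) := by
    have hle : zpowers (b ^ (i * j)) ≤ zpowers b := zpowers_le.mpr (zpow_mem (mem_zpowers b) _)
    have heq : zpowers (b ^ (i * j)) = zpowers b := Subgroup.eq_of_le_of_card_ge hle (by
      rw [Nat.card_zpowers, Nat.card_zpowers, ← e1, orderOf_conj])
    rw [heq]; exact mem_zpowers b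
  obtain ⟨l, hl⟩ := mem_zpowers_iff.mp hmem
  rw [← hl]
  exact (hcb.zpow_right l).eq.symm

/-- The involutions of `T`. -/
theorem involution_cases (hxT : x ∈ T) {s : G} (hs : s ∈ T) (hs2 : orderOf s = 2) :
    s = t ∨ s = v ∨ s = t * v := by
  by_contra hne
  push Not at hne
  have hst := mem_cent.mp (hTC hs)
  have hc : s * v ∈ core t := by
    refine L.w.mem_core.mpr ⟨by rw [mul_assoc, L.vt, ← mul_assoc, hst, mul_assoc], fun b hb hbo => ?_⟩
    have h1 : s * v * b * (s * v)⁻¹ = b := by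
      rw [show s * v * b * (s * v)⁻¹ = s * (v * b * v⁻¹) * s⁻¹ by group,
        L.w.inverts L.hv L.vt L.v_ne hb hbo, ← conj_inv,
        L.w.inverts hs2 hst hne.1 hb hbo, inv_inv]
    exact (mul_inv_eq_iff_eq_mul.mp h1).symm
  rcases L.mem_two hc (two_elem_of_mem hT (mul_mem hs (zpowers_le.mpr hxT L.hvx))) with h | h
  · exact hne.2.1 (by rw [mul_eq_one_iff_eq_inv.mp h, involution_inv L.hv])
  · exact hne.2.2 (by rw [← h, mul_assoc, involution_sq L.hv, mul_one])

/-- All elements of `T` of order at least four have `v` among their powers. -/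
theorem v_mem {y : G} (hy : y ∈ T) (hy4 : y * y ≠ 1) (hxT : x ∈ T) : v ∈ zpowers y := by
  have hy2 := two_elem_of_mem hT hy
  have hy1 : y ≠ 1 := fun h => hy4 (by simp [h])
  obtain ⟨i, hi, hi2⟩ := exists_involution_pow hy2 hy1
  rcases L.involution_cases hT hTC hxT (zpowers_le.mpr hy hi) hi2 with rfl | rfl | rfl
  · exact absurd (L.core_sq (L.w.mem_core_of_zpowers hy2 hi) hy2) hy4
  · exact hi
  exfalso
  -- roots of `tv` and of `v` would give a root of `t`
  have root : ∀ {z r : G}, (∃ k : ℕ, orderOf z = 2 ^ k) → z * z ≠ 1 → r ∈ zpowers z →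
      orderOf r = 2 → ∃ q ∈ zpowers z, q * q = r := by
    intro z r hz hz4 hr hr2
    obtain ⟨k, hk⟩ := hz
    obtain ⟨k', rfl⟩ : ∃ k', k = k' + 2 := ⟨k - 2, by
      by_contra h
      apply hz4
      rw [← pow_two, ← orderOf_dvd_iff_pow_eq_one, hk]
      rcases (by omega : k = 0 ∨ k = 1) with rfl | rfl <;> norm_num⟩
    refine ⟨z ^ 2 ^ k', pow_mem (mem_zpowers z) _, ?_⟩
    rw [← pow_add, ← two_mul, ← pow_succ']
    refine involution_unique (pow_mem (mem_zpowers z) _) hr ?_ hr2 (isOfFinOrder_of_finite z)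
    rw [orderOf_pow_of_dvd (by positivity) (hk ▸ pow_dvd_pow 2 (by omega)), hk,
      Nat.pow_div (by omega) two_pos, show k' + 2 - (k' + 1) = 1 by omega, pow_one]
  obtain ⟨q, hq, hqq⟩ := root hy2 hy4 hi hi2
  obtain ⟨p, hp, hpp⟩ := root L.h2 (fun h => by
    have := Nat.le_of_dvd two_pos (orderOf_dvd_of_pow_eq_one (by rwa [pow_two] : x ^ 2 = 1))
    have := L.hx4
    omega) L.hvx L.hv
  have hqT : q ∈ T := zpowers_le.mpr hy hq
  have hpT : p ∈ T := zpowers_le.mpr hxT hp
  have hcm := L.commutator_mem hT hTC hqT hpT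
  have hsqeq : ∀ c, c = 1 ∨ c = t → q * p * q⁻¹ * p⁻¹ = c →
      (q * p) * (q * p) = c * t ∧ ((q * p) * (q * p) = 1 ∨ (q * p) * (q * p) = t) := by
    intro c hc hcd
    have hqt : Commute q t := mem_cent.mp (hTC hqT)
    have hpt : Commute p t := mem_cent.mp (hTC hpT)
    have hct : Commute q c ∧ Commute p c ∧ c * c = 1 := by
      rcases hc with rfl | rfl
      · exact ⟨Commute.one_right _, Commute.one_right _, one_mul 1⟩
      · exact ⟨hqt, hpt, involution_sq L.w.ht⟩
    have hpq : p * q = c * (q * p) := by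
      have h1 : q * p = c * (p * q) := by rw [← hcd]; group
      rw [h1, ← mul_assoc c c, hct.2.2, one_mul]
    have h : (q * p) * (q * p) = c * t := by
      calc q * p * (q * p) = q * (p * q) * p := by group
        _ = c * ((q * q) * (p * p)) := by
            rw [hpq, ← mul_assoc q c, hct.1.eq]; group
        _ = c * t := by rw [hqq, hpp, mul_assoc t v v, involution_sq L.hv, mul_one]
    refine ⟨h, ?_⟩
    rcases hc with rfl | rfl
    · exact Or.inr (by rw [h, one_mul])
    · exact Or.inl (by rw [h, involution_sq L.w.ht])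
  rcases hcm with hc | hc
  · -- a root of `t`
    obtain ⟨h, -⟩ := hsqeq 1 (Or.inl rfl) hc
    rw [one_mul] at h
    have h2 := two_elem_of_mem hT (mul_mem hqT hpT)
    have hmem : t ∈ zpowers (q * p) := h ▸ mul_mem (mem_zpowers _) (mem_zpowers _)
    have := L.core_sq (L.w.mem_core_of_zpowers h2 hmem) h2
    rw [h] at this
    exact involution_ne_one L.w.ht this
  · -- an involution; then `q` and `p` commute
    have hpv : p * v = v * p := by rw [← hpp, mul_assoc]
    have hqv : q * v = v * q := by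
      have h1 := L.commutator_mem hT hTC hqT (zpowers_le.mpr hxT L.hvx)
      rcases h1 with h1 | h1
      · rwa [mul_inv_eq_one, mul_inv_eq_iff_eq_mul] at h1
      · exfalso
        have hqp : q * v * q⁻¹ = v := by
          rw [← hpp, show q * (p * p) * q⁻¹ = (q * p * q⁻¹) * (q * p * q⁻¹) by group]
          have e : q * p * q⁻¹ = t * p := by rw [← hc]; group
          rw [e, show t * p * (t * p) = t * (p * t) * p by group,
            mem_cent.mp (hTC hpT)]
          rw [← mul_assoc t t p, involution_sq L.w.ht, one_mul]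
        rw [hqp, mul_inv_cancel] at h1
        exact involution_ne_one L.w.ht h1.symm
    have hmem := L.w.ctx.conj_mem L.hv (hpp ▸ mul_mem (mem_zpowers p) (mem_zpowers p)) hqv
    have : t ∈ zpowers p := by
      rw [← hc]; exact mul_mem hmem (inv_mem (mem_zpowers p))
    exact L.v_ne (involution_unique (hpp ▸ mul_mem (mem_zpowers p) (mem_zpowers p)) this L.hv L.w.ht
      (isOfFinOrder_of_finite p))

end Long

namespace Long

variable {t a x v : G} (L : Long t a x v)
include L

theorem isPGroup_cent : IsPGroup 2 ↥(centralizer ({v} : Set G)) := by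
  refine IsPGroup.iff_card.mpr ⟨(Nat.card ↥(centralizer ({v} : Set G))).primeFactorsList.length, ?_⟩
  refine Nat.eq_prime_pow_of_unique_prime_dvd Nat.card_pos.ne' ?_
  intro q hq hqd
  haveI := Fact.mk hq
  by_contra hq2
  obtain ⟨⟨b, hb⟩, hbo⟩ := exists_prime_orderOf_dvd_card' q hqd
  rw [Subgroup.orderOf_mk] at hbo
  have w' : Wit v b := ⟨L.w.ctx, L.hv, mem_cent.mp hb, hbo ▸ hq.odd_of_ne_two hq2,
    fun h => hq.ne_one (by rw [← hbo, h, orderOf_one])⟩
  have h := w'.inverts_two L.w.ht L.vt.symm L.v_ne.symm L.h2 L.hvx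
  rw [← L.hxt, mul_inv_cancel_right] at h
  have := Nat.le_of_dvd two_pos (orderOf_dvd_of_pow_eq_one (x := x) (n := 2) (by
    rw [pow_two]; exact eq_inv_iff_mul_eq_one.mp h))
  have := L.hx4
  omega

theorem false : False := by
  haveI : Fact (Nat.Prime 2) := ⟨Nat.prime_two⟩
  set C := centralizer ({t} : Set G) with hC
  set P := centralizer ({v} : Set G) with hP
  set T := P ⊓ C with hTdef
  have hPp := L.isPGroup_cent
  have hT : IsPGroup 2 ↥T := hPp.to_le inf_le_left
  have hTC : T ≤ C := inf_le_right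
  have hxv : x * v = v * x := by
    obtain ⟨k, hk⟩ := mem_zpowers_iff.mp L.hvx
    rw [← hk]; exact ((Commute.refl x).zpow_right k).eq
  have hxT : x ∈ T := ⟨mem_cent.mpr hxv, mem_cent.mpr L.hxt⟩
  have htT : t ∈ T := ⟨mem_cent.mpr L.vt.symm, mem_cent.mpr rfl⟩
  have hvT : v ∈ T := ⟨mem_cent.mpr rfl, mem_cent.mpr L.vt⟩
  have hx2 : x * x ≠ 1 := fun h => by
    have := Nat.le_of_dvd two_pos (orderOf_dvd_of_pow_eq_one (by rwa [pow_two] : x ^ 2 = 1))
    have := L.hx4
    omega
  -- `T` is normal in `P`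
  have hTn : ∀ n ∈ P, ∀ y ∈ T, n * y * n⁻¹ ∈ T := by
    intro n hn y hy
    have big : ∀ z ∈ T, z * z ≠ 1 → n * z * n⁻¹ ∈ T := fun z hz hz4 =>
      zpowers_le.mpr hz (L.w.ctx.conj_mem L.hv (L.v_mem hT hTC hz hz4 hxT) (mem_cent.mp hn))
    by_cases hy4 : y * y = 1
    · have hxy : (x * y) * (x * y) ≠ 1 := by
        intro h
        have hyx : Commute x y := by
          rcases eq_or_ne y 1 with rfl | hy1
          · exact Commute.one_right x
          rcases L.involution_cases hT hTC hxT hy (orderOf_eq_two_of hy1 hy4) with rfl | rfl | rfl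
          · exact L.hxt
          · exact hxv
          · exact (show Commute x t from L.hxt).mul_right hxv
        rw [hyx.symm.mul_mul_mul_comm, hy4, mul_one] at h
        exact hx2 h
      have := mul_mem (inv_mem (big x hxT hx2)) (big _ (mul_mem hxT hy) hxy)
      rwa [show (n * x * n⁻¹)⁻¹ * (n * (x * y) * n⁻¹) = n * y * n⁻¹ by group] at this
    · exact big y hy hy4
  have ht_odd : ∀ g : G, g * v * g⁻¹ ≠ t := by
    intro g hg
    have hmem : g⁻¹ * a * g ∈ centralizer ({v} : Set G) := by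
      rw [← cent_conj, hg]; exact mem_cent.mpr L.w.hat
    obtain ⟨k, hk⟩ := two_elem_of_mem hPp hmem
    have hord : orderOf (g⁻¹ * a * g) = orderOf a := by
      simpa using orderOf_conj g⁻¹ a
    rw [hord] at hk
    rcases Nat.eq_zero_or_pos k with rfl | hk0
    · exact L.w.ha1 (orderOf_eq_one_iff.mp hk)
    · have := L.w.ho
      rw [hk] at this
      exact Nat.not_odd_iff_even.mpr (Nat.even_pow.mpr ⟨even_two, hk0.ne'⟩) this
  -- images of `t` under `P`
  have him : ∀ n ∈ P, n * t * n⁻¹ = t ∨ n * t * n⁻¹ = t * v := by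
    intro n hn
    rcases L.involution_cases hT hTC hxT (hTn n hn t htT) ((orderOf_conj n t).trans L.w.ht) with h | h | h
    · exact Or.inl h
    · exfalso
      exact L.v_ne (conj_injective (h.trans (mul_inv_eq_iff_eq_mul.mpr (mem_cent.mp hn)).symm)).symm
    · exact Or.inr h
  have hsquares : ∀ n ∈ P, n * n ∈ T := by
    intro n hn
    refine ⟨mul_mem hn hn, mem_cent.mpr ?_⟩
    rcases him n hn with h | h
    · have h' : Commute n t := mul_inv_eq_iff_eq_mul.mp h
      exact (h'.mul_left h').eq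
    · refine mul_inv_eq_iff_eq_mul.mp ?_
      rw [show n * n * t * (n * n)⁻¹ = n * (n * t * n⁻¹) * n⁻¹ by group, h,
        show n * (t * v) * n⁻¹ = (n * t * n⁻¹) * (n * v * n⁻¹) by group, h,
        mul_inv_eq_iff_eq_mul.mpr (mem_cent.mp hn), mul_assoc, involution_sq L.hv, mul_one]
  -- a root `z` of `v`
  obtain ⟨z, hzx, hzz⟩ : ∃ z ∈ zpowers x, z * z = v := by
    obtain ⟨m, hm⟩ := L.h2
    obtain ⟨m', rfl⟩ : ∃ m', m = m' + 2 := ⟨m - 2, by
      rcases m with _ | _ | m
      · have := L.hx4; rw [hm] at this; norm_num at this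
      · have := L.hx4; rw [hm] at this; norm_num at this
      · rfl⟩
    refine ⟨x ^ 2 ^ m', pow_mem (mem_zpowers x) _, ?_⟩
    rw [← pow_add, ← two_mul, ← pow_succ']
    refine involution_unique (pow_mem (mem_zpowers x) _) L.hvx ?_ L.hv (isOfFinOrder_of_finite x)
    rw [orderOf_pow_of_dvd (by positivity) (hm ▸ pow_dvd_pow 2 (by omega)), hm,
      Nat.pow_div (by omega) two_pos, show m' + 2 - (m' + 1) = 1 by omega, pow_one]
  have hzT : z ∈ T := zpowers_le.mpr hxT hzx
  have hzt : Commute z t := mem_cent.mp (hTC hzT)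
  have hz1 : z ≠ 1 := fun h => involution_ne_one L.hv (by rw [← hzz, h, one_mul])
  have hzv : z ≠ v := fun h => involution_ne_one L.hv (by rw [← hzz, h]; exact involution_sq L.hv)
  have hz4 : orderOf z = 4 := by
    rw [show (4 : ℕ) = 2 ^ 2 from rfl]
    refine orderOf_eq_prime_pow ?_ ?_
    · rw [pow_one, pow_two, hzz]; exact involution_ne_one L.hv
    · rw [show 2 ^ (1 + 1) = 2 * 2 from rfl, pow_mul, pow_two z, hzz, pow_two, involution_sq L.hv]
  -- `P` is a Sylow subgroup
  obtain ⟨Q, hQ⟩ := hPp.exists_le_sylow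
  have hQP : (Q : Subgroup G) = P := by
    refine le_antisymm ?_ hQ
    by_contra hle
    haveI : Group.IsNilpotent ↥(Q : Subgroup G) := Q.isPGroup'.isNilpotent
    set R := P.subgroupOf (Q : Subgroup G) with hR
    have hRt : R ≠ ⊤ := fun h => hle (subgroupOf_eq_top.mp h)
    obtain ⟨⟨n, hnQ⟩, hnN, hnR⟩ := SetLike.exists_of_lt
      (normalizerCondition_of_isNilpotent (G := ↥(Q : Subgroup G)) R (lt_top_iff_ne_top.mpr hRt))
    apply hnR
    refine mem_subgroupOf.mpr (mem_cent.mpr (mul_inv_eq_iff_eq_mul.mp ?_))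
    have hN : ∀ y ∈ P, n * y * n⁻¹ ∈ P ∧ n⁻¹ * y * n ∈ P := fun y hy => by
      refine ⟨mem_subgroupOf.mp ((mem_normalizer_iff.mp hnN ⟨y, hQ hy⟩).mp (mem_subgroupOf.mpr hy)), ?_⟩
      have := (mem_normalizer_iff.mp hnN ⟨n⁻¹ * y * n,
        mul_mem (mul_mem (inv_mem hnQ) (hQ hy)) hnQ⟩).mpr (mem_subgroupOf.mpr (by
          show n * (n⁻¹ * y * n) * n⁻¹ ∈ P
          rwa [show n * (n⁻¹ * y * n) * n⁻¹ = y by group]))
      exact mem_subgroupOf.mp this
    set v' := n * v * n⁻¹ with hv'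
    have hcen : ∀ p ∈ P, v' * p = p * v' := fun p hp => by
      have h2 := mem_cent.mp (hN p hp).2
      calc v' * p = n * (v * (n⁻¹ * p * n)) * n⁻¹ := by rw [hv']; group
        _ = p * v' := by rw [← h2, hv']; group
    have hv'T : v' ∈ T := ⟨(hN v hvT.1).1, mem_cent.mpr (hcen t htT.1)⟩
    rcases L.involution_cases hT hTC hxT hv'T ((orderOf_conj n v).trans L.hv) with h | h | h
    · exact absurd h (ht_odd n)
    · exact h
    · -- then `P = T`
      exfalso
      have hPT : ∀ p ∈ P, p ∈ T := fun p hp => by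
        refine ⟨hp, mem_cent.mpr ?_⟩
        have h1 := hcen p hp
        rw [h] at h1
        have h2 : v * p = p * v := (mem_cent.mp hp).symm
        calc p * t = p * (t * v) * v := by rw [mul_assoc p, mul_assoc t, involution_sq L.hv, mul_one]
          _ = t * (v * p) * v := by rw [← h1]; group
          _ = t * p := by rw [h2, ← mul_assoc, mul_assoc _ v v, involution_sq L.hv, mul_one]
      have hz' : n * z * n⁻¹ ∈ T := hPT _ (hN z hzT.1).1
      have hsq : (n * z * n⁻¹) * (n * z * n⁻¹) = v' := by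
        rw [show n * z * n⁻¹ * (n * z * n⁻¹) = n * (z * z) * n⁻¹ by group, hzz]
      have hne1 : v' ≠ 1 := fun e => involution_ne_one L.hv (conj_eq_one_iff.mp e)
      have hvm := L.v_mem hT hTC hz' (hsq ▸ hne1) hxT
      have : v' = v := involution_unique (hsq ▸ mul_mem (mem_zpowers _) (mem_zpowers _)) hvm
        ((orderOf_conj n v).trans L.hv) L.hv (isOfFinOrder_of_finite _)
      exact involution_ne_one L.w.ht (mul_eq_right.mp (h.symm.trans this))
  -- `v` is isolated
  refine L.w.ctx.not_isolated Q L.hv (by rw [← SetLike.mem_coe, ← Sylow.coe_coe, SetLike.mem_coe, hQP]; exact hvT.1) ?_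
  intro g hg
  by_contra hne
  set w := g * v * g⁻¹ with hw
  have hwP : w ∈ P := hQP ▸ hg
  have hw2 : orderOf w = 2 := (orderOf_conj g v).trans L.hv
  -- squares of `C(w)` commute with `g t g⁻¹`
  have hsq' : ∀ n, n * w = w * n → (n * n) * (g * t * g⁻¹) = g * t * g⁻¹ * (n * n) := by
    intro n hn
    have h1 := hsquares (g⁻¹ * n * g) (by rw [hP, ← cent_conj, ← hw]; exact mem_cent.mpr hn)
    have h2 := mem_cent.mp (hTC h1)
    calc n * n * (g * t * g⁻¹) = g * (g⁻¹ * n * g * (g⁻¹ * n * g) * t) * g⁻¹ := by group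
      _ = g * t * g⁻¹ * (n * n) := by rw [h2]; group
  have key : ∀ y ∈ T, y * w = w * y → y * y = v → False := by
    intro y hy hyw hyy
    have h1 := hsq' y hyw
    rw [hyy] at h1
    -- `v ∈ g T g⁻¹`
    have hu : g⁻¹ * v * g ∈ T := by
      refine ⟨?_, mem_cent.mpr ?_⟩
      · show g⁻¹ * v * g ∈ centralizer ({v} : Set G)
        rw [← cent_conj, ← hw]; exact mem_cent.mpr (mem_cent.mp hwP).symm
      · calc g⁻¹ * v * g * t = g⁻¹ * (v * (g * t * g⁻¹)) * g := by group
          _ = t * (g⁻¹ * v * g) := by rw [h1]; group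
    rcases L.involution_cases hT hTC hxT hu (by simpa using (orderOf_conj g⁻¹ v).trans L.hv) with h | h | h
    · exact ht_odd g⁻¹ (by rwa [inv_inv])
    · apply hne
      calc g * v * g⁻¹ = g * (g⁻¹ * v * g) * g⁻¹ := by rw [h]
        _ = v := by group
    · -- `v` would be conjugate to `t v`, so `P = T`
      have hPT : ∀ p ∈ P, p * t = t * p := fun p hp => by
        rcases him p hp with h' | h'
        · exact mul_inv_eq_iff_eq_mul.mp h'
        · refine absurd ?_ (ht_odd (p⁻¹ * g⁻¹))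
          rw [show p⁻¹ * g⁻¹ * v * (p⁻¹ * g⁻¹)⁻¹ = p⁻¹ * (g⁻¹ * v * g) * p by group, h, ← h']
          group
      have hgz : g⁻¹ * y * g ∈ T := by
        have hm : g⁻¹ * y * g ∈ P := by rw [hP, ← cent_conj, ← hw]; exact mem_cent.mpr hyw
        exact ⟨hm, mem_cent.mpr (hPT _ hm)⟩
      have hsq : (g⁻¹ * y * g) * (g⁻¹ * y * g) = t * v := by
        rw [← h, ← hyy]; group
      have hvm := L.v_mem hT hTC hgz (by rw [hsq]; exact involution_ne_one L.tv_inv.1) hxT
      exact involution_ne_one L.w.ht (mul_eq_right.mp (involution_unique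
        (hsq ▸ mul_mem (mem_zpowers _) (mem_zpowers _)) hvm L.tv_inv.1 L.hv (isOfFinOrder_of_finite _)))
  -- a root of `v` commuting with `w`
  have hwv : w * v = v * w := mem_cent.mp hwP
  by_cases hwt : w * t = t * w
  · exact key z hzT (by
      rcases L.involution_cases hT hTC hxT ⟨hwP, mem_cent.mpr hwt⟩ hw2 with e | e | e
      · exact absurd e (ht_odd g)
      · exact absurd e hne
      · rw [e]; exact (hzt.mul_right (by rw [← hzz]; exact (Commute.refl z).mul_right (Commute.refl z))).eq) hzz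
  have hwtv : w * t * w⁻¹ = t * v := by
    rcases him w hwP with h | h
    · exact absurd (mul_inv_eq_iff_eq_mul.mp h) hwt
    · exact h
  obtain ⟨k, hk⟩ := mem_zpowers_iff.mp (L.w.ctx.conj_mem L.hv
    (hzz ▸ mul_mem (mem_zpowers z) (mem_zpowers z)) hwv)
  have hk4 : z ^ k = z ^ (k % 4) := by
    conv_lhs => rw [← zpow_mod_orderOf, hz4]
    norm_num
  rw [hk4] at hk
  have hsqk : (w * z * w⁻¹) * (w * z * w⁻¹) = v := by
    rw [show w * z * w⁻¹ * (w * z * w⁻¹) = w * (z * z) * w⁻¹ by group, hzz,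
      mul_inv_eq_iff_eq_mul.mpr hwv]
  have hz4' : z ^ (4 : ℤ) = 1 := by rw [zpow_ofNat, ← hz4, pow_orderOf_eq_one]
  rcases (by omega : k % 4 = 0 ∨ k % 4 = 1 ∨ k % 4 = 2 ∨ k % 4 = 3) with e | e | e | e <;>
    rw [e] at hk
  · rw [← hk, zpow_zero, one_mul] at hsqk
    exact involution_ne_one L.hv hsqk.symm
  · rw [zpow_one] at hk
    exact key z hzT (mul_inv_eq_iff_eq_mul.mp hk.symm).symm hzz
  · rw [← hk, ← zpow_add, show (2 : ℤ) + 2 = 4 from rfl, hz4'] at hsqk
    exact involution_ne_one L.hv hsqk.symm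
  · have hk' : w * z * w⁻¹ = z * v := by
      rw [← hk, ← hzz, show (3 : ℤ) = 1 + 2 from rfl, zpow_add, zpow_one, zpow_ofNat, pow_two]
    refine key (z * t) (mul_mem hzT htT) (mul_inv_eq_iff_eq_mul.mp ?_).symm ?_
    · rw [show w * (z * t) * w⁻¹ = (w * z * w⁻¹) * (w * t * w⁻¹) by group, hk', hwtv,
        mul_assoc z v, ← mul_assoc v t, L.vt, mul_assoc t, involution_sq L.hv, mul_one]
    · rw [hzt.symm.mul_mul_mul_comm, hzz, involution_sq L.w.ht, mul_one]

end Long

namespace Wit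

variable {t a : G} (w : Wit t a)
include w

/-- A 2-element of `C(t)` outside the core is an involution. -/
theorem sq_of_not_mem {x : G} (hxt : x * t = t * x) (h2 : ∃ k : ℕ, orderOf x = 2 ^ k)
    (hx : x ∉ core t) : orderOf x = 2 := by
  obtain ⟨k, hk⟩ := h2
  have hx1 : x ≠ 1 := fun h => hx (h ▸ one_mem _)
  obtain ⟨v, hvx, hv⟩ := exists_involution_pow ⟨k, hk⟩ hx1
  rcases k with _ | _ | k
  · exact absurd (orderOf_eq_one_iff.mp (by rw [hk, pow_zero])) hx1
  · rw [hk]; rfl
  · exact (Long.false (x := x) ⟨w, hxt, ⟨_, hk⟩, by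
      rw [hk]
      calc 4 = 2 ^ 2 := rfl
        _ ≤ _ := Nat.pow_le_pow_right two_pos (by omega), hx, hv, hvx⟩).elim

/-- `C(t)` is the core extended by any other involution. -/
theorem mem_or {s g : G} (hs : orderOf s = 2) (hst : s * t = t * s) (hne : s ≠ t)
    (hg : g * t = t * g) : g ∈ core t ∨ s * g ∈ core t := by
  obtain ⟨g2, hg2, g', hg', h2, ho, he⟩ := exists_two_odd g
  have hC : ∀ y ∈ zpowers g, y * t = t * y := fun y hy =>
    mem_cent.mp (zpowers_le.mpr (mem_cent.mpr hg) hy)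
  have hg'c : g' ∈ core t := w.odd_mem_core (hC g' hg') ho
  by_cases h : g2 ∈ core t
  · exact Or.inl (he ▸ mul_mem h hg'c)
  refine Or.inr ?_
  have h22 := w.sq_of_not_mem (hC g2 hg2) h2 h
  have hne2 : g2 ≠ t := fun e => h (e ▸ w.mem_core_of_zpowers ⟨1, by rw [pow_one]; exact w.ht⟩ (mem_zpowers t))
  rw [he, ← mul_assoc]
  refine mul_mem (w.mem_core.mpr ⟨by rw [mul_assoc, hC g2 hg2, ← mul_assoc, hst, mul_assoc],
    fun b hb hbo => ?_⟩) hg'c
  have h1 : s * g2 * b * (s * g2)⁻¹ = b := by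
    rw [show s * g2 * b * (s * g2)⁻¹ = s * (g2 * b * g2⁻¹) * s⁻¹ by group,
      w.inverts h22 (hC g2 hg2) hne2 hb hbo, ← conj_inv, w.inverts hs hst hne hb hbo, inv_inv]
  exact (mul_inv_eq_iff_eq_mul.mp h1).symm

/-- With one class of involutions the configuration of Brauer, Suzuki and Wall. -/
theorem config (hconj : ∀ x y : G, orderOf x = 2 → orderOf y = 2 → IsConj x y) :
    ∃ (s : G) (K : Subgroup G), PGroups.BSW.Config t s K := by
  obtain ⟨s, hs, hst, hne⟩ := w.exists_other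
  refine ⟨s, core t, w.ht, ?_, inf_le_left, ?_, hs, mem_cent.mpr hst, w.not_mem_core hs hst hne, ?_, ?_,
    fun x hx => w.inverts_core hs hst hne hx, fun g hg => ?_, hconj⟩
  · exact ⟨⟨fun x y => Subtype.ext (w.core_comm x.2 y.2)⟩⟩
  · exact w.mem_core_of_zpowers ⟨1, by rw [pow_one]; exact w.ht⟩ (mem_zpowers t)
  · refine le_antisymm (sup_le inf_le_left (zpowers_le.mpr (mem_cent.mpr hst))) fun g hg => ?_
    rcases w.mem_or hs hst hne (mem_cent.mp hg) with h | h
    · exact mem_sup_left h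
    · rw [show g = s⁻¹ * (s * g) by group]
      exact mul_mem (mem_sup_right (inv_mem (mem_zpowers s))) (mem_sup_left h)
  · ext x
    rw [mem_inf, mem_cent]
    constructor
    · rintro ⟨hx, hxs⟩
      rcases eq_or_ne x 1 with rfl | hx1
      · exact one_mem _
      have h1 := w.inverts_core hs hst hne hx
      rw [← hxs, mul_inv_cancel_right] at h1
      have h2 := orderOf_eq_two_of hx1 (eq_inv_iff_mul_eq_one.mp h1)
      rw [w.ctx.unique_inv w.ht h2 w.hat ((w.mem_core.mp hx).2 a w.hat w.ho) w.ho w.ha1]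
      exact mem_zpowers t
    · intro hx
      obtain ⟨k, rfl⟩ := mem_zpowers_iff.mp hx
      exact ⟨zpow_mem (w.mem_core_of_zpowers ⟨1, by rw [pow_one]; exact w.ht⟩ (mem_zpowers t)) k,
        ((show Commute t s from hst.symm).zpow_left k).eq⟩
  · rw [eq_bot_iff]
    rintro x ⟨hx, y, hy, hyx⟩
    rw [mem_bot]
    by_contra hx1
    apply hg
    have hgy : g * y * g⁻¹ = x := hyx
    have hy1 : y ≠ 1 := fun h => hx1 (by rw [← hgy, h]; group)
    set t' := g * t * g⁻¹ with ht'
    have hmap : (zpowers y).map (MulAut.conj g).toMonoidHom = zpowers x := by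
      rw [MonoidHom.map_zpowers]; exact congrArg zpowers hgy
    have hyt : (g * t * g⁻¹) ∈ normalizer (zpowers x : Set G) := by
      rw [← hmap, ← Subgroup.map_equiv_normalizer_eq (zpowers y) (MulAut.conj g), w.core_norm hy hy1]
      exact ⟨t, mem_cent.mpr rfl, rfl⟩
    rw [w.core_norm hx hx1] at hyt
    have hcen : ∀ c, c * t = t * c → c * t' = t' * c := by
      intro c hc
      have h1 : c ∈ normalizer (zpowers x : Set G) := by rw [w.core_norm hx hx1]; exact mem_cent.mpr hc
      rw [← hmap, ← Subgroup.map_equiv_normalizer_eq (zpowers y) (MulAut.conj g),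
        w.core_norm hy hy1] at h1
      obtain ⟨d, hd, rfl⟩ := h1
      show g * d * g⁻¹ * (g * t * g⁻¹) = g * t * g⁻¹ * (g * d * g⁻¹)
      calc g * d * g⁻¹ * (g * t * g⁻¹) = g * (d * t) * g⁻¹ := by group
        _ = _ := by rw [mem_cent.mp hd]; group
    have := w.ctx.unique_inv w.ht ((orderOf_conj g t).trans w.ht) w.hat (hcen a w.hat) w.ho w.ha1
    exact mem_cent.mpr (mul_inv_eq_iff_eq_mul.mp this)

end Wit

end CfsgLib.EvenCyclic
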