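import Cfsg.Agent.Lib.OddGated5.EvenCyclic.Basic
import Cfsg.Agent.Lib.Known.AutPSL.FieldClass

/-!
# No field automorphisms
-/

set_option autoImplicit false
set_option linter.all false

namespace CfsgLib.EvenCyclic

open Subgroup CfsgLib.Signalizer Matrix CfsgLib.Known.AutPSL

universe u

/-- `G` between `PSL(2, F)` and its automorphism group. -/
structure Emb (G : Type u) [Group G] (F : Type) [Field F] where
  θ : G →* MulAut (CfsgLib.Known.AutPSL.PSL 2 F)
  inj : Function.Injective θ
  ι : CfsgLib.Known.AutPSL.PSL 2 F →* G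
  hι : ∀ x, θ (ι x) = MulAut.conj x

variable {G : Type u} [Group G] [Finite G] {F : Type} [Field F] [Fintype F]

/-- `diag(d, 1)`. -/
noncomputable def dd (d : Fˣ) : GL (Fin 2) F :=
  ⟨!![(d : F), 0; 0, 1], !![((d⁻¹ : Fˣ) : F), 0; 0, 1],
    by ext i j; fin_cases i <;> fin_cases j <;> simp [Matrix.mul_apply, Fin.sum_univ_two],
    by ext i j; fin_cases i <;> fin_cases j <;> simp [Matrix.mul_apply, Fin.sum_univ_two]⟩

omit [Fintype F] in
theorem coe_dd (d : Fˣ) : ((dd d : GL (Fin 2) F) : Matrix (Fin 2) (Fin 2) F) = !![(d : F), 0; 0, 1] := rfl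

omit [Fintype F] in
theorem dd_mul (d e : Fˣ) : dd d * dd e = dd (d * e) := by
  refine Units.ext ?_
  rw [Units.val_mul, coe_dd, coe_dd, coe_dd]
  ext i j; fin_cases i <;> fin_cases j <;> simp [Matrix.mul_apply, Fin.sum_univ_two]

omit [Fintype F] in
theorem glMap_dd (σ : F ≃+* F) (d : Fˣ) : glMap σ (dd d) = dd (Units.map (σ : F →* F) d) := by
  refine Units.ext ?_
  rw [coe_glMap, coe_dd, coe_dd]
  ext i j; fin_cases i <;> fin_cases j <;> simp

omit [Fintype F] in
theorem semilin_dd_mul (d e : Fˣ) (σ τ : F ≃+* F) :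
    semilin (dd d) σ * semilin (dd e) τ =
      semilin (dd (d * Units.map (σ : F →* F) e)) (τ.trans σ) := by
  rw [semilin_mul, glMap_dd, dd_mul]

omit [Fintype F] in
theorem dd_one : dd (1 : Fˣ) = (1 : GL (Fin 2) F) := by
  refine Units.ext ?_
  rw [coe_dd, Units.val_one]
  ext i j; fin_cases i <;> fin_cases j <;> simp

/-- A matrix of determinant one. -/
def sl2 (a b c d : F) (h : a * d - b * c = 1) : CfsgLib.Known.AutPSL.SL 2 F :=
  ⟨!![a, b; c, d], by rw [Matrix.det_fin_two]; simpa using h⟩

omit [Fintype F] in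
theorem coe_sl2 (a b c d : F) (h : a * d - b * c = 1) :
    ((sl2 a b c d h : CfsgLib.Known.AutPSL.SL 2 F) : Matrix (Fin 2) (Fin 2) F) = !![a, b; c, d] := rfl

namespace Emb

variable (E : Emb G F)

/-- A matrix of determinant one as an element of `G`. -/
noncomputable def mat (a b c d : F) (h : a * d - b * c = 1) : G :=
  E.ι (proj 2 F (sl2 a b c d h))

omit [Finite G] [Fintype F] in
theorem θ_mat (a b c d : F) (h : a * d - b * c = 1) :
    E.θ (E.mat a b c d h) = semilin (Matrix.SpecialLinearGroup.toGL
      (sl2 a b c d h)) (RingEquiv.refl F) := by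
  rw [mat, E.hι, conj_eq_semilin]

omit [Finite G] in
theorem ι_proj_inj {A B : SL 2 F} (h : E.ι (proj 2 F A) = E.ι (proj 2 F B)) :
    ∃ c : F, c ≠ 0 ∧ (B : Matrix (Fin 2) (Fin 2) F) = c • (A : Matrix (Fin 2) (Fin 2) F) := by
  have h1 := congrArg E.θ h
  rw [E.hι, E.hι, conj_eq_semilin, conj_eq_semilin] at h1
  have h2 : semilin (Matrix.SpecialLinearGroup.toGL A⁻¹ * Matrix.SpecialLinearGroup.toGL B)
      (RingEquiv.refl F) = 1 := by
    rw [← innDiag_apply, map_mul, innDiag_apply (Matrix.SpecialLinearGroup.toGL B), ← h1,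
      ← innDiag_apply, ← map_mul, ← map_mul, inv_mul_cancel, map_one, map_one]
  obtain ⟨-, c, hc⟩ := (semilin_eq_one_iff le_rfl _ _).mp h2
  refine ⟨c, fun hc0 => ?_, ?_⟩
  · rw [hc0, zero_smul] at hc
    exact Units.ne_zero _ hc
  · rw [← map_mul] at hc
    have e : ((A⁻¹ * B : SL 2 F) : Matrix (Fin 2) (Fin 2) F) = c • 1 := hc
    calc (B : Matrix (Fin 2) (Fin 2) F) = (A : Matrix (Fin 2) (Fin 2) F) * ((A⁻¹ * B : SL 2 F) : Matrix (Fin 2) (Fin 2) F) := by
          rw [← Matrix.SpecialLinearGroup.coe_mul, mul_inv_cancel_left]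
      _ = c • (A : Matrix (Fin 2) (Fin 2) F) := by rw [e, mul_smul_comm, mul_one]

omit [Finite G] in
theorem mat_inj {a b c d a' b' c' d' : F} {h : a * d - b * c = 1} {h' : a' * d' - b' * c' = 1}
    (e : E.mat a b c d h = E.mat a' b' c' d' h') :
    ∃ k : F, k ≠ 0 ∧ a' = k * a ∧ b' = k * b ∧ c' = k * c ∧ d' = k * d := by
  obtain ⟨k, hk, hB⟩ := E.ι_proj_inj e
  rw [coe_sl2, coe_sl2] at hB
  refine ⟨k, hk, ?_, ?_, ?_, ?_⟩
  · simpa using congrFun (congrFun hB 0) 0
  · simpa using congrFun (congrFun hB 0) 1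
  · simpa using congrFun (congrFun hB 1) 0
  · simpa using congrFun (congrFun hB 1) 1

omit [Finite G] [Fintype F] in
theorem mat_mul (a b c d a' b' c' d' : F) (h : a * d - b * c = 1) (h' : a' * d' - b' * c' = 1) :
    E.mat a b c d h * E.mat a' b' c' d' h' = E.mat (a * a' + b * c') (a * b' + b * d')
      (c * a' + d * c') (c * b' + d * d') (by linear_combination (a' * d' - b' * c') * h + h') := by
  rw [mat, mat, mat, ← map_mul, ← map_mul]
  congr 2
  refine Subtype.ext ?_
  rw [Matrix.SpecialLinearGroup.coe_mul, coe_sl2, coe_sl2, coe_sl2]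
  ext i j; fin_cases i <;> fin_cases j <;> simp [Matrix.mul_apply, Fin.sum_univ_two]

omit [Finite G] [Fintype F] in
theorem mat_congr {a b c d a' b' c' d' : F} {h : a * d - b * c = 1} {h' : a' * d' - b' * c' = 1}
    (ha : a = a') (hb : b = b') (hc : c = c') (hd : d = d') :
    E.mat a b c d h = E.mat a' b' c' d' h' := by subst ha; subst hb; subst hc; subst hd; rfl

omit [Finite G] [Fintype F] in
theorem mat_one : E.mat 1 0 0 1 (by ring) = 1 := by
  rw [mat, show sl2 (1 : F) 0 0 1 _ = 1 from Subtype.ext (by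
    rw [coe_sl2, Matrix.SpecialLinearGroup.coe_one, Matrix.one_fin_two]), map_one, map_one]

omit [Finite G] [Fintype F] in
theorem mat_inv (a b c d : F) (h : a * d - b * c = 1) :
    (E.mat a b c d h)⁻¹ = E.mat d (-b) (-c) a (by linear_combination h) := by
  refine inv_eq_of_mul_eq_one_right ?_
  rw [mat_mul]
  exact (E.mat_congr (by linear_combination h) (by ring) (by ring) (by linear_combination h)).trans
    E.mat_one

omit [Finite G] [Fintype F] in
theorem comm_of_fix {g : G} {a b c d : F} {h : a * d - b * c = 1} {σ : F ≃+* F}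
    (hg : E.θ g = semilin 1 σ) (ha : σ a = a) (hb : σ b = b) (hc : σ c = c) (hd : σ d = d) :
    g * E.mat a b c d h = E.mat a b c d h * g := by
  apply E.inj
  rw [map_mul, map_mul, hg, E.θ_mat, semilin_mul, semilin_mul, map_one, mul_one, one_mul]
  congr 1
  refine Units.ext ?_
  rw [coe_glMap]
  show (!![a, b; c, d]).map σ = !![a, b; c, d]
  ext i j; fin_cases i <;> fin_cases j <;> simp [ha, hb, hc, hd]

/-- The element `(0 1; -1 0)`. -/
noncomputable def sw : G := E.mat 0 1 (-1) 0 (by ring)

omit [Finite G] in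
theorem sw_two : orderOf E.sw = 2 := by
  refine orderOf_eq_two_of (fun h => ?_) ?_
  · rw [sw, ← E.mat_one] at h
    obtain ⟨k, -, e, -, -, -⟩ := E.mat_inj h
    simp at e
  · rw [sw, mat_mul]
    have e : ∀ hh : (-1 : F) * -1 - 0 * 0 = 1, E.mat (-1) 0 0 (-1) hh = 1 := fun hh => by
      have hz : sl2 (-1 : F) 0 0 (-1) hh ∈ Subgroup.center (CfsgLib.Known.AutPSL.SL 2 F) := by
        rw [Matrix.SpecialLinearGroup.mem_center_iff]
        refine ⟨-1, by simp, ?_⟩
        rw [coe_sl2]
        ext i j; fin_cases i <;> fin_cases j <;> simp [Matrix.scalar_apply]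
      rw [mat, show proj 2 F (sl2 (-1 : F) 0 0 (-1) hh) = 1 from
        (QuotientGroup.eq_one_iff _).mpr hz, map_one]
    exact (E.mat_congr (by ring) (by ring) (by ring) (by ring)).trans (e (by ring))

theorem no_fieldAut (hG : Hyp G) (hctx : Ctx G) (h5 : 4 < Fintype.card F) {g : G} {σ : F ≃+* F}
    (hg : E.θ g = semilin 1 σ) : g = 1 := by
  classical
  by_contra hg1
  obtain ⟨r, hr, hrd⟩ := Nat.exists_prime_and_dvd (n := orderOf g)
    fun h => hg1 (orderOf_eq_one_iff.mp h)
  rcases Nat.even_or_odd (orderOf g) with hev | hod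
  · -- an involution
    obtain ⟨m, hm⟩ := hev
    have hm0 : m ≠ 0 := fun h => (orderOf_pos g).ne' (by rw [hm, h])
    set τ := g ^ m with hτ
    have hτ2 : orderOf τ = 2 := by
      rw [hτ, orderOf_pow, hm, Nat.gcd_eq_right ⟨2, by ring⟩, ← mul_two]
      exact Nat.mul_div_cancel_left _ (Nat.pos_of_ne_zero hm0)
    set ρ := σ ^ m with hρ
    have hθ : E.θ τ = semilin 1 ρ := by
      rw [hτ, map_pow, hg]; exact (map_pow (fieldHom 2 F) σ m).symm
    have hfix : ∀ a b c d : F, ∀ h : a * d - b * c = 1, ρ a = a → ρ b = b → ρ c = c → ρ d = d →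
        E.mat a b c d h * τ = τ * E.mat a b c d h := fun a b c d h ha hb hc hd =>
      (E.comm_of_fix hθ ha hb hc hd).symm
    obtain ⟨p, hp⟩ := CharP.exists F
    haveI : Fact p.Prime := ⟨CharP.char_is_prime F p⟩
    by_cases hp2 : p = 2
    · subst hp2
      -- a fixed scalar outside the prime field
      obtain ⟨c, hc, hc0, hc1⟩ : ∃ c : F, ρ c = c ∧ c ≠ 0 ∧ c ≠ 1 := by
        by_contra hno
        push Not at hno
        have hρ2 : ∀ x, ρ (ρ x) = x := by
          intro x
          have h1 : E.θ (τ * τ) = semilin 1 (ρ.trans ρ) := by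
            rw [map_mul, hθ, semilin_mul, map_one, one_mul]
          rw [involution_sq hτ2, map_one] at h1
          exact congrArg (fun e : F ≃+* F => e x) ((semilin_eq_one_iff le_rfl _ _).mp h1.symm).1
        have h4 : ∀ x : F, x ^ 4 = x := by
          intro x
          have hA : x + ρ x = 0 ∨ x + ρ x = 1 := by
            by_cases h : x + ρ x = 0
            · exact Or.inl h
            · exact Or.inr (hno _ (by rw [map_add, hρ2, add_comm]) h)
          have hB : x * ρ x = 0 ∨ x * ρ x = 1 := by
            by_cases h : x * ρ x = 0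
            · exact Or.inl h
            · exact Or.inr (hno _ (by rw [map_mul, hρ2, mul_comm]) h)
          have hq : x * x = (x + ρ x) * x + x * ρ x := by
            have : x * ρ x + x * ρ x = 0 := CharTwo.add_self_eq_zero _
            linear_combination -this
          have h2 : (2 : F) = 0 := CharTwo.two_eq_zero
          rcases hA with hA | hA <;> rcases hB with hB | hB <;> rw [hA, hB] at hq
          · have hx : x = 0 := by simpa using hq
            rw [hx]; ring
          · have hx : x = 1 := by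
              have : (x + 1) ^ 2 = 0 := by linear_combination hq + (x + 1) * h2
              have := pow_eq_zero_iff two_ne_zero |>.mp this
              linear_combination this - h2
            rw [hx]; ring
          · linear_combination (x ^ 2 + x + 1) * hq
          · linear_combination (x ^ 2 + x + 2) * hq + (x + 1) * h2
        have hcard : Fintype.card F ≤ 4 := by
          have hP : (Polynomial.X ^ 4 - Polynomial.X : Polynomial F) ≠ 0 :=
            FiniteField.X_pow_card_sub_X_ne_zero F (by norm_num)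
          have hsub : (Finset.univ : Finset F) ⊆ (Polynomial.X ^ 4 - Polynomial.X : Polynomial F).roots.toFinset := by
            intro x _
            rw [Multiset.mem_toFinset, Polynomial.mem_roots hP]
            simp [h4 x]
          have h5 := (Finset.card_le_card hsub).trans (Multiset.toFinset_card_le _)
          have h6 := Polynomial.card_roots' (Polynomial.X ^ 4 - Polynomial.X : Polynomial F)
          rw [FiniteField.X_pow_card_sub_X_natDegree_eq F (by norm_num)] at h6
          rw [Finset.card_univ] at h5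
          omega
        omega
      set D := E.mat c 0 0 c⁻¹ (by rw [mul_inv_cancel₀ hc0]; ring) with hD
      set U := E.mat 1 1 0 1 (by ring) with hU
      have hDo : Odd (orderOf D) := by
        let f : Fˣ →* G := MonoidHom.mk' (fun u => E.mat (u : F) 0 0 ((u⁻¹ : Fˣ) : F) (by simp))
          fun u v => by
            rw [mat_mul]
            exact E.mat_congr (by simp) (by simp) (by simp) (by simp [mul_comm])
        have hfD : f (Units.mk0 c hc0) = D := by
          show E.mat ((Units.mk0 c hc0 : Fˣ) : F) 0 0 (((Units.mk0 c hc0)⁻¹ : Fˣ) : F) (by simp [hc0]) = D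
          exact E.mat_congr rfl rfl rfl (by simp)
        rw [← hfD]
        refine Odd.of_dvd_nat ?_ ((orderOf_map_dvd f _).trans (orderOf_dvd_natCard _))
        rw [Nat.card_eq_fintype_card, Fintype.card_units]
        obtain ⟨k, -, hk⟩ := FiniteField.card F 2
        rw [hk]
        have h2k : 2 ∣ 2 ^ (k : ℕ) := dvd_pow_self 2 k.ne_zero
        have hpos : 0 < 2 ^ (k : ℕ) := by positivity
        rw [Nat.odd_iff]; omega
      have hDτ : D * τ = τ * D := hfix c 0 0 c⁻¹ (by rw [mul_inv_cancel₀ hc0]; ring) hc (map_zero ρ) (map_zero ρ) (by rw [map_inv₀, hc])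
      have hUτ := hfix 1 1 0 1 (by ring) (map_one ρ) (map_one ρ) (map_zero ρ) (map_one ρ)
      have hmem := hctx.odd_conj_mem hτ2 hDτ hDo hUτ
      -- diagonal elements form a subgroup
      let T : Subgroup G := (MonoidHom.mk' (fun u : Fˣ => E.mat (u : F) 0 0 ((u⁻¹ : Fˣ) : F) (by simp))
        fun u v => by
            rw [mat_mul]
            exact E.mat_congr (by simp) (by simp) (by simp) (by simp [mul_comm])).range
      have hDT : D ∈ T := ⟨Units.mk0 c hc0, show E.mat ((Units.mk0 c hc0 : Fˣ) : F) 0 0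
        (((Units.mk0 c hc0)⁻¹ : Fˣ) : F) (by simp [hc0]) = D from E.mat_congr rfl rfl rfl (by simp)⟩
      obtain ⟨u, hu⟩ := zpowers_le.mpr hDT hmem
      rw [hD, mat_inv, mat_mul, mat_mul, MonoidHom.mk'_apply] at hu
      obtain ⟨k, -, -, e2, -, -⟩ := E.mat_inj hu
      rw [mul_zero] at e2
      have h7 : c⁻¹ = c := by linear_combination e2
      have h8 : c * c = 1 := by
        nth_rewrite 1 [← h7]; exact inv_mul_cancel₀ hc0
      have h9 : (c + 1) ^ 2 = 0 := by
        have h2 : (2 : F) = 0 := CharTwo.two_eq_zero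
        linear_combination h8 + (c + 1) * h2
      exact hc1 (by
        have := pow_eq_zero_iff two_ne_zero |>.mp h9
        linear_combination this - (CharTwo.two_eq_zero : (2 : F) = 0))
    · -- unipotent elements
      have hp' := (Fact.out : p.Prime).odd_of_ne_two hp2
      let fu : Multiplicative F →* G := MonoidHom.mk' (fun s => E.mat 1 (Multiplicative.toAdd s) 0 1 (by ring))
        fun s s' => by
          rw [mat_mul]
          exact E.mat_congr (by ring) (by rw [toAdd_mul]; ring) (by ring) (by ring)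
      let fl : Multiplicative F →* G := MonoidHom.mk' (fun s => E.mat 1 0 (Multiplicative.toAdd s) 1 (by ring))
        fun s s' => by
          rw [mat_mul]
          exact E.mat_congr (by ring) (by ring) (by rw [toAdd_mul]; ring) (by ring)
      have hexp : ∀ s : Multiplicative F, s ^ p = 1 := fun s => Multiplicative.toAdd.injective (by
        rw [toAdd_pow, toAdd_one, nsmul_eq_mul, CharP.cast_eq_zero, zero_mul])
      set L := fl (Multiplicative.ofAdd 1) with hL
      set U := fu (Multiplicative.ofAdd 1) with hU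
      have hLo : Odd (orderOf L) := hp'.of_dvd_nat (orderOf_dvd_of_pow_eq_one
        (by rw [hL, ← map_pow, hexp, map_one]))
      have hLτ : L * τ = τ * L := hfix 1 0 1 1 (by ring) (map_one ρ) (map_zero ρ) (map_one ρ) (map_one ρ)
      have hUτ : U * τ = τ * U := hfix 1 1 0 1 (by ring) (map_one ρ) (map_one ρ) (map_zero ρ) (map_one ρ)
      have hmem := hctx.odd_conj_mem hτ2 hLτ hLo hUτ
      obtain ⟨s, hs⟩ := zpowers_le.mpr (show L ∈ fl.range from ⟨_, rfl⟩) hmem
      have e1 : U * L = E.mat 2 1 1 1 (by ring) := by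
        show E.mat 1 1 0 1 _ * E.mat 1 0 1 1 _ = _
        rw [mat_mul]
        exact E.mat_congr (by ring) (by ring) (by ring) (by ring)
      have e2 : U⁻¹ = E.mat 1 (-1) 0 1 (by ring) := by
        show (E.mat 1 1 0 1 _)⁻¹ = _
        rw [mat_inv]
        exact E.mat_congr rfl rfl neg_zero rfl
      rw [e1, e2, mat_mul] at hs
      obtain ⟨k, -, -, e, -, -⟩ := E.mat_inj hs
      rw [mul_zero] at e
      exact one_ne_zero (α := F) (by linear_combination -e)
  · -- odd order: `g` centralises `sw`
    have hswg := E.comm_of_fix (g := g) (h := (by ring : (0 : F) * 0 - 1 * -1 = 1)) hg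
      (map_zero σ) (map_one σ) (by rw [map_neg, map_one]) (map_zero σ)
    have hUg := E.comm_of_fix (g := g) (h := (by ring : (1 : F) * 1 - 1 * 0 = 1)) hg
      (map_one σ) (map_one σ) (map_zero σ) (map_one σ)
    have h1 := hctx.odd_cent_le E.sw_two hswg hod hg1 hUg.symm
    rw [sw, mat_mul, mat_mul] at h1
    obtain ⟨k, -, e00, e01, -, -⟩ := E.mat_inj h1
    simp only [mul_zero, mul_one, one_mul, zero_mul, zero_add, add_zero] at e00 e01
    have hk : k = 0 := by linear_combination e00
    rw [hk] at e01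
    exact one_ne_zero e01

end Emb

end CfsgLib.EvenCyclic
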