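import Cfsg.Agent.Lib.OddGated5.EvenCyclic.NoPair
import Cfsg.Agent.Lib.PGroups.BSW.Basic

/-!
# Centralisers of involutions with a non-trivial odd part

`C(t)` is `K⟨s⟩` with `K` abelian, inverted by the involution `s`.
-/

set_option autoImplicit false
set_option linter.all false

namespace CfsgLib.EvenCyclic

open Subgroup CfsgLib.Signalizer

universe u

variable {G : Type u} [Group G] [Finite G]

omit [Finite G] in
/-- A cyclic group has at most one involution. -/
theorem involution_unique {u x y : G} (hx : x ∈ zpowers u) (hy : y ∈ zpowers u) (h2x : orderOf x = 2)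
    (h2y : orderOf y = 2) (hu : IsOfFinOrder u) : x = y := by
  classical
  have hfin : Finite ↥(zpowers u) := hu.finite_zpowers
  haveI := Fintype.ofFinite ↥(zpowers u)
  have h := IsCyclic.card_pow_eq_one_le (α := ↥(zpowers u)) (n := 2) two_pos
  by_contra hne
  have hsub : ({1, ⟨x, hx⟩, ⟨y, hy⟩} : Finset ↥(zpowers u)) ⊆ Finset.univ.filter (fun a => a ^ 2 = 1) := by
    intro a ha
    simp only [Finset.mem_insert, Finset.mem_singleton] at ha
    rcases ha with rfl | rfl | rfl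
    · simp
    · simp [Subtype.ext_iff, pow_two, involution_sq h2x]
    · simp [Subtype.ext_iff, pow_two, involution_sq h2y]
  have h3 : ({1, ⟨x, hx⟩, ⟨y, hy⟩} : Finset ↥(zpowers u)).card = 3 := by
    rw [Finset.card_eq_three]
    refine ⟨1, ⟨x, hx⟩, ⟨y, hy⟩, ?_, ?_, ?_, rfl⟩
    · exact fun e => involution_ne_one h2x (congrArg Subtype.val e).symm
    · exact fun e => involution_ne_one h2y (congrArg Subtype.val e).symm
    · exact fun e => hne (congrArg Subtype.val e)
  have := Finset.card_le_card hsub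
  omega

/-- A non-trivial 2-element has an involution among its powers. -/
theorem exists_involution_pow {x : G} (hx : ∃ k : ℕ, orderOf x = 2 ^ k) (hx1 : x ≠ 1) :
    ∃ i ∈ zpowers x, orderOf i = 2 := by
  obtain ⟨k, hk⟩ := hx
  have hk0 : k ≠ 0 := fun h => hx1 (orderOf_eq_one_iff.mp (by rw [hk, h, pow_zero]))
  have hp : IsPGroup 2 ↥(zpowers x) := IsPGroup.of_card (n := k) (by rw [Nat.card_zpowers, hk])
  exact exists_involution_of_two_group hp (zpowers_ne_bot.mpr hx1)

theorem exists_two_odd (x : G) :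
    ∃ x2 ∈ zpowers x, ∃ x' ∈ zpowers x, (∃ k : ℕ, orderOf x2 = 2 ^ k) ∧ Odd (orderOf x') ∧
      x = x2 * x' := by
  obtain ⟨k, m, hm, he⟩ := Nat.exists_eq_pow_mul_and_not_dvd (orderOf_pos x).ne' 2 (by norm_num)
  have hcop : Nat.Coprime (2 ^ k) m :=
    Nat.Coprime.pow_left k ((Nat.prime_two.coprime_iff_not_dvd).mpr hm)
  have hb : Int.gcd (2 ^ k : ℕ) m = 1 := by rw [Int.gcd_natCast_natCast]; exact hcop
  have hz := Int.gcd_eq_gcd_ab (2 ^ k : ℕ) m
  rw [hb] at hz
  set A := Int.gcdA (2 ^ k : ℕ) m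
  set B := Int.gcdB (2 ^ k : ℕ) m
  refine ⟨x ^ ((m : ℤ) * B), zpow_mem (mem_zpowers x) _, x ^ (((2 ^ k : ℕ) : ℤ) * A),
    zpow_mem (mem_zpowers x) _, ?_, ?_, ?_⟩
  · have h1 : (x ^ ((m : ℤ) * B)) ^ (2 ^ k) = 1 := by
      rw [← zpow_natCast (x ^ ((m : ℤ) * B)), ← zpow_mul, show (m : ℤ) * B * ((2 ^ k : ℕ) : ℤ) =
        ((orderOf x : ℕ) : ℤ) * B by rw [he]; push_cast; ring, zpow_mul, zpow_natCast,
        pow_orderOf_eq_one, one_zpow]
    obtain ⟨j, -, hj⟩ := (Nat.dvd_prime_pow Nat.prime_two).mp (orderOf_dvd_of_pow_eq_one h1)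
    exact ⟨j, hj⟩
  · have h1 : (x ^ (((2 ^ k : ℕ) : ℤ) * A)) ^ m = 1 := by
      rw [← zpow_natCast (x ^ (((2 ^ k : ℕ) : ℤ) * A)), ← zpow_mul,
        show ((2 ^ k : ℕ) : ℤ) * A * (m : ℤ) = ((orderOf x : ℕ) : ℤ) * A by rw [he]; push_cast; ring,
        zpow_mul, zpow_natCast, pow_orderOf_eq_one, one_zpow]
    exact (Nat.odd_iff.mpr (Nat.two_dvd_ne_zero.mp hm)).of_dvd_nat (orderOf_dvd_of_pow_eq_one h1)
  · rw [← zpow_add, show (m : ℤ) * B + ((2 ^ k : ℕ) : ℤ) * A = 1 by
      rw [add_comm]; exact_mod_cast hz.symm, zpow_one]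

namespace Ctx

variable (h : Ctx G)
include h

theorem oddCore_eq_bot : Cfsg.oddCore G = ⊥ :=
  h.radical _ inferInstance (h.ft _ (ZStar.odd_card_oddCore G))

/-- No involution is isolated in a Sylow 2-subgroup. -/
theorem not_isolated (P : Sylow 2 G) {u : G} (hu : orderOf u = 2) (huP : u ∈ P)
    (hiso : ∀ g : G, g * u * g⁻¹ ∈ P → g * u * g⁻¹ = u) : False := by
  have hc : ∀ g : G, u * g = g * u := fun g => by
    have := ZStar.mem_oddCore_of_sylow P hu huP hiso g
    rw [h.oddCore_eq_bot, mem_bot, mul_inv_eq_one, mul_inv_eq_iff_eq_mul] at this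
    exact this
  have hn : (zpowers u).Normal := ⟨fun z hz g => by
    obtain ⟨k, rfl⟩ := mem_zpowers_iff.mp hz
    rw [← ((show Commute u g from hc g).zpow_left k).eq, mul_inv_cancel_right]
    exact hz⟩
  exact zpowers_ne_bot.mpr (involution_ne_one hu) (h.radical _ hn inferInstance)

end Ctx

/-- An involution whose centraliser has a non-trivial element of odd order. -/
structure Wit (t a : G) : Prop where
  ctx : Ctx G
  ht : orderOf t = 2
  hat : a * t = t * a
  ho : Odd (orderOf a)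
  ha1 : a ≠ 1

/-- The part of `C(t)` centralising its elements of odd order. -/
noncomputable def core (t : G) : Subgroup G :=
  centralizer ({t} : Set G) ⊓ centralizer (oddPart t : Set G)

namespace Wit

variable {t a : G} (w : Wit t a)
include w

theorem mem_core {x : G} : x ∈ core t ↔
    x * t = t * x ∧ ∀ b, b * t = t * b → Odd (orderOf b) → b * x = x * b := by
  rw [core, mem_inf, mem_cent, mem_centralizer_iff]
  refine and_congr_right fun _ => ⟨fun h b hb hbo => h b ((w.ctx.mem_oddPart w.ht).mpr ⟨hb, hbo⟩),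
    fun h b hb => ?_⟩
  obtain ⟨h1, h2⟩ := (w.ctx.mem_oddPart w.ht).mp hb
  exact h b h1 h2

/-- A 2-element of `C(t)` having `t` among its powers centralises the odd part. -/
theorem mem_core_of_zpowers {x : G} (hx : ∃ k : ℕ, orderOf x = 2 ^ k) (htx : t ∈ zpowers x) :
    x ∈ core t := by
  have hxt : x * t = t * x := by
    obtain ⟨k, hk⟩ := mem_zpowers_iff.mp htx
    rw [← hk]; exact ((Commute.refl x).zpow_right k).eq
  refine w.mem_core.mpr ⟨hxt, fun b hb hbo => ?_⟩
  have h1 := w.ctx.conj_mem w.ht htx hb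
  have h2 := w.ctx.odd_conj_mem w.ht hb hbo hxt
  set c := b * x * b⁻¹ * x⁻¹ with hc
  have hc1 : c ∈ zpowers x := mul_mem h1 (inv_mem (mem_zpowers x))
  have hc2 : c ∈ zpowers b := by
    rw [hc, show b * x * b⁻¹ * x⁻¹ = b * (x * b * x⁻¹)⁻¹ by group]
    exact mul_mem (mem_zpowers b) (inv_mem h2)
  obtain ⟨k, hk⟩ := hx
  have hd : orderOf c ∣ Nat.gcd (2 ^ k) (orderOf b) :=
    Nat.dvd_gcd (hk ▸ orderOf_dvd_of_mem_zpowers hc1) (orderOf_dvd_of_mem_zpowers hc2)
  rw [Nat.Coprime.gcd_eq_one (Nat.Coprime.pow_left k (Nat.coprime_two_left.mpr hbo)),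
    Nat.dvd_one, orderOf_eq_one_iff, hc, mul_inv_eq_one, mul_inv_eq_iff_eq_mul] at hd
  exact hd

/-- Another involution of `C(t)` inverts the odd part. -/
theorem inverts {s b : G} (hs : orderOf s = 2) (hst : s * t = t * s) (hne : s ≠ t)
    (hb : b * t = t * b) (hbo : Odd (orderOf b)) : s * b * s⁻¹ = b⁻¹ := by
  obtain ⟨k, hk⟩ := mem_zpowers_iff.mp (w.ctx.odd_conj_mem w.ht hb hbo hst)
  set c := b * (s * b * s⁻¹) with hc
  have hbb : b * (s * b * s⁻¹) = s * b * s⁻¹ * b := by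
    rw [← hk]; exact ((Commute.refl b).zpow_right k).eq
  have hcs : c * s = s * c := by
    rw [hc]
    calc b * (s * b * s⁻¹) * s = b * (s * b) := by group
      _ = s * (s * b * s⁻¹ * b) := by
          rw [show s * (s * b * s⁻¹ * b) = s * s * (b * s⁻¹ * b) by group, involution_sq hs,
            one_mul, involution_inv hs, mul_assoc]
      _ = s * (b * (s * b * s⁻¹)) := by rw [hbb]
  have hcz : c ∈ zpowers b := by
    rw [hc, ← hk]; exact mul_mem (mem_zpowers b) (zpow_mem (mem_zpowers b) k)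
  have hct : c * t = t * c := by
    obtain ⟨j, hj⟩ := mem_zpowers_iff.mp hcz
    rw [← hj]; exact ((show Commute b t from hb).zpow_left j).eq
  by_contra hne'
  refine hne (w.ctx.unique_inv w.ht hs hct hcs (hbo.of_dvd_nat (orderOf_dvd_of_mem_zpowers hcz)) ?_)
  exact fun h1 => hne' (eq_inv_of_mul_eq_one_right h1)

/-- Another involution of `C(t)` lies outside the core. -/
theorem not_mem_core {s : G} (hs : orderOf s = 2) (hst : s * t = t * s) (hne : s ≠ t) :
    s ∉ core t := fun h =>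
  hne (w.ctx.unique_inv w.ht hs w.hat ((w.mem_core.mp h).2 a w.hat w.ho) w.ho w.ha1)

theorem exists_other : ∃ s : G, orderOf s = 2 ∧ s * t = t * s ∧ s ≠ t := by
  by_contra hno
  push Not at hno
  haveI : Fact (Nat.Prime 2) := ⟨Nat.prime_two⟩
  obtain ⟨P, hP⟩ := (isPGroup_zpowers_involution w.ht).exists_le_sylow
  have htP : t ∈ (P : Subgroup G) := hP (mem_zpowers t)
  have hle : (P : Subgroup G) ≤ centralizer ({t} : Set G) := by
    by_contra hle
    haveI : Group.IsNilpotent ↥(P : Subgroup G) := P.isPGroup'.isNilpotent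
    set R := (centralizer ({t} : Set G)).subgroupOf (P : Subgroup G) with hR
    have hRt : R ≠ ⊤ := fun h => hle (subgroupOf_eq_top.mp h)
    obtain ⟨⟨n, hnP⟩, hnN, hnR⟩ := SetLike.exists_of_lt
      (normalizerCondition_of_isNilpotent (G := ↥(P : Subgroup G)) R (lt_top_iff_ne_top.mpr hRt))
    have h1 := mem_subgroupOf.mp ((mem_normalizer_iff.mp hnN ⟨t, htP⟩).mp
      (mem_subgroupOf.mpr (mem_cent.mpr rfl)))
    exact hnR (mem_subgroupOf.mpr (mem_cent.mpr (mul_inv_eq_iff_eq_mul.mp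
      (hno _ ((orderOf_conj n t).trans w.ht) (mem_cent.mp h1)))))
  refine w.ctx.not_isolated P w.ht htP fun g hg => ?_
  exact hno _ ((orderOf_conj g t).trans w.ht) (mem_cent.mp (hle hg))

/-- Other involutions invert the cyclic groups of 2-elements through `t`. -/
theorem inverts_two {s u : G} (hs : orderOf s = 2) (hst : s * t = t * s) (hne : s ≠ t)
    (hu : ∃ k : ℕ, orderOf u = 2 ^ k) (htu : t ∈ zpowers u) : s * u * s⁻¹ = u⁻¹ := by
  set c := s * u * s⁻¹ * u with hc
  have hcu : c ∈ zpowers u := mul_mem (w.ctx.conj_mem w.ht htu hst) (mem_zpowers u)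
  by_contra hne'
  have hc1 : c ≠ 1 := fun h => hne' (eq_inv_of_mul_eq_one_left h)
  obtain ⟨k, hk⟩ := hu
  have hck : ∃ j : ℕ, orderOf c = 2 ^ j := by
    obtain ⟨j, -, hj⟩ := (Nat.dvd_prime_pow Nat.prime_two).mp (hk ▸ orderOf_dvd_of_mem_zpowers hcu)
    exact ⟨j, hj⟩
  obtain ⟨i, hi, hi2⟩ := exists_involution_pow hck hc1
  obtain rfl : i = t := involution_unique (zpowers_le.mpr hcu hi) htu hi2 w.ht
    (isOfFinOrder_of_finite u)
  have hsq : (s * u) ^ 2 = c := by
    rw [hc, pow_two, involution_inv hs, mul_assoc, mul_assoc, mul_assoc]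
  have htsu : i ∈ zpowers (s * u) :=
    zpowers_le.mpr (hsq ▸ pow_mem (mem_zpowers (s * u)) 2) hi
  have h2 : ∃ j : ℕ, orderOf (s * u) = 2 ^ j := by
    obtain ⟨j, hj⟩ := hck
    obtain ⟨l, -, hl⟩ := (Nat.dvd_prime_pow Nat.prime_two (m := j + 1)).mp
      (orderOf_dvd_of_pow_eq_one (x := s * u) (n := 2 ^ (j + 1)) (by
        rw [pow_succ', pow_mul, hsq, ← hj, pow_orderOf_eq_one]))
    exact ⟨l, hl⟩
  refine w.not_mem_core hs hst hne ?_
  have := mul_mem (w.mem_core_of_zpowers h2 htsu) (inv_mem (w.mem_core_of_zpowers ⟨k, hk⟩ htu))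
  rwa [mul_inv_cancel_right] at this

/-- The 2-part of an element of the core. -/
theorem core_two {x : G} (hx : x ∈ core t) (h2 : ∃ k : ℕ, orderOf x = 2 ^ k) (hx1 : x ≠ 1) :
    t ∈ zpowers x := by
  obtain ⟨i, hi, hi2⟩ := exists_involution_pow h2 hx1
  have hia : a * i = i * a := by
    obtain ⟨k, hk⟩ := mem_zpowers_iff.mp hi
    rw [← hk]; exact ((show Commute a x from (w.mem_core.mp hx).2 a w.hat w.ho).zpow_right k).eq
  obtain rfl : i = t := w.ctx.unique_inv w.ht hi2 w.hat hia w.ho w.ha1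
  exact hi

/-- An other involution inverts the core. -/
theorem inverts_core {s x : G} (hs : orderOf s = 2) (hst : s * t = t * s) (hne : s ≠ t)
    (hx : x ∈ core t) : s * x * s⁻¹ = x⁻¹ := by
  obtain ⟨x2, hx2, x', hx', h2, ho, he⟩ := exists_two_odd x
  have hc : Commute x2 x' := by
    obtain ⟨i, rfl⟩ := mem_zpowers_iff.mp hx2
    obtain ⟨j, rfl⟩ := mem_zpowers_iff.mp hx'
    exact (Commute.refl x).zpow_zpow i j
  have e1 : s * x2 * s⁻¹ = x2⁻¹ := by
    rcases eq_or_ne x2 1 with h1 | h1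
    · simp [h1]
    · exact w.inverts_two hs hst hne h2
        (w.core_two (zpowers_le.mpr hx hx2) h2 h1)
  have e2 : s * x' * s⁻¹ = x'⁻¹ :=
    w.inverts hs hst hne (w.mem_core.mp (zpowers_le.mpr hx hx')).1 ho
  rw [he, show s * (x2 * x') * s⁻¹ = (s * x2 * s⁻¹) * (s * x' * s⁻¹) by group, e1, e2,
    mul_inv_rev, hc.inv_inv.eq]

theorem core_comm {x y : G} (hx : x ∈ core t) (hy : y ∈ core t) : x * y = y * x := by
  obtain ⟨s, hs, hst, hne⟩ := w.exists_other
  have h := w.inverts_core hs hst hne (mul_mem hx hy)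
  rw [show s * (x * y) * s⁻¹ = (s * x * s⁻¹) * (s * y * s⁻¹) by group, w.inverts_core hs hst hne hx,
    w.inverts_core hs hst hne hy] at h
  exact (inv_injective ((mul_inv_rev y x).trans h)).symm

theorem odd_mem_core {b : G} (hb : b * t = t * b) (hbo : Odd (orderOf b)) : b ∈ core t := by
  obtain ⟨s, hs, hst, hne⟩ := w.exists_other
  refine w.mem_core.mpr ⟨hb, fun c hc hco => ?_⟩
  have h := w.inverts hs hst hne (b := c * b) (by rw [mul_assoc, hb, ← mul_assoc, hc, mul_assoc])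
    (w.ctx.odd_mul w.ht hc hco hb hbo)
  rw [show s * (c * b) * s⁻¹ = (s * c * s⁻¹) * (s * b * s⁻¹) by group, w.inverts hs hst hne hc hco,
    w.inverts hs hst hne hb hbo] at h
  exact (inv_injective ((mul_inv_rev b c).trans h)).symm

/-- Every non-trivial element of the core has `C(t)` as the normaliser of its cyclic group. -/
theorem core_norm {x : G} (hx : x ∈ core t) (hx1 : x ≠ 1) :
    normalizer (zpowers x : Set G) = centralizer ({t} : Set G) := by
  obtain ⟨x2, hx2, x', hx', h2, ho, he⟩ := exists_two_odd x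
  by_cases h1 : x2 = 1
  · rw [h1, one_mul] at he
    rw [he] at hx1 hx ⊢
    exact w.ctx.odd_norm w.ht (w.mem_core.mp hx).1 ho hx1
  · exact w.ctx.norm_eq w.ht (zpowers_le.mpr hx2 (w.core_two (zpowers_le.mpr hx hx2) h2 h1))
      (mem_zpowers x) hx1

end Wit

end CfsgLib.EvenCyclic
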