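import Cfsg.Agent.Lib.OddGated5.EvenCyclic.Field

/-!
# No diagonal-field automorphisms
-/

set_option autoImplicit false
set_option linter.all false

namespace CfsgLib.EvenCyclic

open Subgroup CfsgLib.Signalizer CfsgLib.Known.AutPSL

universe u

variable {G : Type u} [Group G] [Finite G] {F : Type} [Field F] [Fintype F]

namespace Emb

variable (E : Emb G F)

omit [Finite G] [Fintype F] in
/-- Inner diagonal elements. -/
theorem θ_diag (e : Fˣ) :
    E.θ (E.mat (e : F) 0 0 ((e⁻¹ : Fˣ) : F) (by simp)) = semilin (dd (e * e)) (RingEquiv.refl F) := by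
  rw [θ_mat]
  have h : innDiag 2 F (Matrix.SpecialLinearGroup.toGL (sl2 (e : F) 0 0 ((e⁻¹ : Fˣ) : F) (by simp))) =
      innDiag 2 F (dd (e * e)) := by
    have : dd (e * e) = Matrix.GeneralLinearGroup.scalar (Fin 2) e *
        Matrix.SpecialLinearGroup.toGL (sl2 (e : F) 0 0 ((e⁻¹ : Fˣ) : F) (by simp)) := by
      refine Units.ext ?_
      rw [Units.val_mul, coe_dd, Matrix.GeneralLinearGroup.coe_scalar]
      show _ = Matrix.scalar (Fin 2) (e : F) * !![(e : F), 0; 0, ((e⁻¹ : Fˣ) : F)]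
      rw [Matrix.scalar_apply]
      ext i j; fin_cases i <;> fin_cases j <;> simp [Matrix.mul_apply, Fin.sum_univ_two]
    rw [this, map_mul]
    have hs : innDiag 2 F (Matrix.GeneralLinearGroup.scalar (Fin 2) e) = 1 := by
      rw [innDiag, MonoidHom.coe_mk, OneHom.coe_mk, semilin_eq_one_iff le_rfl]
      refine ⟨rfl, (e : F), ?_⟩
      rw [Matrix.GeneralLinearGroup.coe_scalar, Matrix.scalar_apply, ← Matrix.smul_one_eq_diagonal]
    rw [hs, one_mul]
  exact h

omit [Finite G] [Fintype F] in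
/-- Every element may be normalised by an element of the inner group. -/
theorem normalise {g : G} {h : GL (Fin 2) F} {σ : F ≃+* F} (hg : E.θ g = semilin h σ) :
    ∃ g' : G, E.θ g' = semilin (dd (Matrix.GeneralLinearGroup.det h)) σ := by
  set d := Matrix.GeneralLinearGroup.det h with hd
  set S : GL (Fin 2) F := dd d * h⁻¹ with hS
  have hdd : Matrix.GeneralLinearGroup.det (dd d) = d := by
    refine Units.ext ?_
    rw [Matrix.GeneralLinearGroup.val_det_apply, coe_dd, Matrix.det_fin_two]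
    simp
  have hdet : (S : Matrix (Fin 2) (Fin 2) F).det = 1 := by
    have : Matrix.GeneralLinearGroup.det S = 1 := by
      rw [hS, map_mul, hdd, map_inv, ← hd, mul_inv_cancel]
    have := congrArg Units.val this
    simpa using this
  set A : CfsgLib.Known.AutPSL.SL 2 F := ⟨(S : Matrix (Fin 2) (Fin 2) F), hdet⟩ with hA
  refine ⟨E.ι (proj 2 F A) * g, ?_⟩
  rw [map_mul, E.hι, conj_eq_semilin, hg,
    show Matrix.SpecialLinearGroup.toGL A = S from Units.ext rfl, semilin_mul]
  congr 1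
  rw [show glMap (RingEquiv.refl F) h = h from Units.ext (by rw [coe_glMap]; exact Matrix.map_id _), hS,
    inv_mul_cancel_right]

omit [Finite G] [Fintype F] in
/-- Squares may be dropped. -/
theorem drop_square {g : G} {d e : Fˣ} {σ : F ≃+* F} (hg : E.θ g = semilin (dd d) σ) :
    ∃ g' : G, E.θ g' = semilin (dd (e * e * d)) σ := by
  refine ⟨E.mat (e : F) 0 0 ((e⁻¹ : Fˣ) : F) (by simp) * g, ?_⟩
  rw [map_mul, E.θ_diag, hg, semilin_dd_mul]
  rfl

theorem field_trivial (hctx : Ctx G) (h5 : 4 < Fintype.card F) {g : G} {e : Fˣ} {σ : F ≃+* F}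
    (hg : E.θ g = semilin (dd (e * e)) σ) : σ = RingEquiv.refl F := by
  obtain ⟨g', hg'⟩ := E.drop_square (e := e⁻¹) hg
  rw [show e⁻¹ * e⁻¹ * (e * e) = 1 by
    rw [mul_mul_mul_comm, inv_mul_cancel, one_mul], dd_one] at hg'
  have := E.no_fieldAut hctx.hyp hctx h5 hg'
  rw [this, map_one] at hg'
  exact ((semilin_eq_one_iff le_rfl _ _).mp hg'.symm).1

/-- There are no field automorphisms at all. -/
theorem no_semilinear (hctx : Ctx G) (h5 : 4 < Fintype.card F) {g : G} {h : GL (Fin 2) F}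
    {σ : F ≃+* F} (hg : E.θ g = semilin h σ) : σ = RingEquiv.refl F := by
  classical
  obtain ⟨g₁, hg₁⟩ := E.normalise hg
  set d₁ := Matrix.GeneralLinearGroup.det h with hd₁
  by_contra hσ
  -- `d₁` is not a square
  have hns : ∀ e : Fˣ, d₁ ≠ e * e := fun e he => hσ (E.field_trivial hctx h5 (he ▸ hg₁))
  obtain ⟨ν, hν⟩ := IsCyclic.exists_generator (α := Fˣ)
  obtain ⟨k, hk⟩ := mem_zpowers_iff.mp (hν d₁)
  have hkodd : Odd k := by
    by_contra hev
    obtain ⟨j, hj⟩ := Int.not_odd_iff_even.mp hev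
    exact hns (ν ^ j) (by rw [← hk, hj, zpow_add])
  obtain ⟨j, hj⟩ := hkodd
  obtain ⟨y, hy⟩ := E.drop_square (e := ν ^ (-j)) hg₁
  rw [show ν ^ (-j) * ν ^ (-j) * d₁ = ν by
    rw [← hk, hj, ← zpow_add, ← zpow_add, show -j + -j + (2 * j + 1) = (1 : ℤ) by ring, zpow_one]] at hy
  set s : Fˣ →* Fˣ := Units.map (σ : F →* F) with hs
  have hsv : ∀ u : Fˣ, ((s u : Fˣ) : F) = σ (u : F) := fun u => rfl
  set N := ν * s ν with hN
  have hy2 : E.θ (y * y) = semilin (dd N) (σ.trans σ) := by rw [map_mul, hy, semilin_dd_mul]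
  -- `ν` is not a square
  have hνns : ∀ e : Fˣ, ν ≠ e * e := fun e he => by
    refine hns (e ^ (2 * j + 1)) ?_
    rw [← hk, hj, he, mul_zpow]
  -- `σ ν` is an odd power of `ν`
  have hNsq : ∃ e : Fˣ, N = e * e := by
    obtain ⟨i, hi⟩ := mem_zpowers_iff.mp (hν (s ν))
    rcases Int.even_or_odd i with ⟨l, hl⟩ | ⟨l, hl⟩
    · exfalso
      -- `σ ν` would be a square
      have h1 : (ν : F) = σ.symm (((ν ^ l : Fˣ) : F)) * σ.symm (((ν ^ l : Fˣ) : F)) := by
        apply σ.injective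
        rw [map_mul, σ.apply_symm_apply, ← Units.val_mul, ← zpow_add, ← hl, hi, hsv]
      exact hνns (Units.map (σ.symm : F →* F) (ν ^ l)) (Units.ext h1)
    · exact ⟨ν ^ (l + 1), by rw [hN, ← hi, hl, ← zpow_one_add, ← zpow_add]; congr 1; ring⟩
  obtain ⟨e₀, he₀⟩ := hNsq
  have hσ2 : σ.trans σ = RingEquiv.refl F := E.field_trivial hctx h5 (he₀ ▸ hy2)
  have hinv : ∀ x, σ (σ x) = x := fun x => congrArg (fun e : F ≃+* F => e x) hσ2
  rw [hσ2] at hy2
  have hsN : s N = N := by
    refine Units.ext ?_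
    rw [hsv, hN, Units.val_mul, map_mul, hsv, hinv, mul_comm]
  obtain ⟨z₀, hz₀⟩ : ∃ z : F, σ z ≠ z := by
    by_contra hno
    push Not at hno
    exact hσ (RingEquiv.ext hno)
  -- `N` has even order
  have hNev : Even (orderOf N) := by
    rw [← Nat.not_odd_iff_even]
    rintro ⟨l, hl⟩
    set n := N ^ (l + 1) with hn
    have hnn : n * n = N := by
      rw [hn, ← pow_add, show l + 1 + (l + 1) = 2 * l + 1 + 1 by ring, pow_succ, ← hl,
        pow_orderOf_eq_one, one_mul]
    have hsn : s n = n := by rw [hn, map_pow, hsN]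
    set u := ν * n⁻¹ with hu
    have huu : u * s u = 1 := by
      rw [hu, map_mul, map_inv, hsn, mul_mul_mul_comm, ← mul_inv, hnn, ← hN, mul_inv_cancel]
    -- `u = x / σ x`
    obtain ⟨x, hx⟩ : ∃ x : Fˣ, u = x * (s x)⁻¹ := by
      by_cases h1 : (u : F) = -1
      · refine ⟨Units.mk0 (z₀ - σ z₀) (sub_ne_zero.mpr (Ne.symm hz₀)), ?_⟩
        rw [eq_mul_inv_iff_mul_eq]
        refine Units.ext ?_
        rw [Units.val_mul, hsv, Units.val_mk0, h1, map_sub, hinv]
        ring
      · have hne : (1 : F) + u ≠ 0 := fun h => h1 (by linear_combination h)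
        refine ⟨Units.mk0 (1 + (u : F)) hne, ?_⟩
        rw [eq_mul_inv_iff_mul_eq]
        refine Units.ext ?_
        have := congrArg Units.val huu
        rw [Units.val_mul, hsv, Units.val_one] at this
        rw [Units.val_mul, hsv, Units.val_mk0, map_add, map_one]
        linear_combination this
    have hnsq : n = (N ^ (l + 1) ^ 1) := by rw [hn, pow_one]
    have hn2 : ∃ e : Fˣ, n = e * e := ⟨e₀ ^ (l + 1), by rw [hn, he₀, mul_pow]⟩
    obtain ⟨e₁, he₁⟩ := hn2
    obtain ⟨i, hi⟩ := mem_zpowers_iff.mp (hν x)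
    have hxsq : ∃ e : Fˣ, x * s x = e * e := ⟨e₀ ^ i, by
      rw [← hi, map_zpow, ← mul_zpow, ← hN, he₀, mul_zpow]⟩
    obtain ⟨e₂, he₂⟩ := hxsq
    refine hνns (e₁ * (e₂ * (s x)⁻¹)) ?_
    calc ν = u * n := by rw [hu, inv_mul_cancel_right]
      _ = e₁ * (e₂ * (s x)⁻¹) * (e₁ * (e₂ * (s x)⁻¹)) := by
          rw [hx, he₁, mul_mul_mul_comm e₁ _ e₁, mul_mul_mul_comm e₂ _ e₂, ← he₂, mul_comm,
            mul_assoc x (s x), ← mul_assoc (s x), mul_inv_cancel, one_mul]
  obtain ⟨m, hm⟩ := hNev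
  have hm0 : m ≠ 0 := fun h => (orderOf_pos N).ne' (by rw [hm, h])
  have hneg : ((N ^ m : Fˣ) : F) = -1 := by
    have h2 : ((N ^ m : Fˣ) : F) * ((N ^ m : Fˣ) : F) = 1 := by
      rw [← Units.val_mul, ← pow_add, ← hm, pow_orderOf_eq_one, Units.val_one]
    rcases mul_self_eq_one_iff.mp h2 with h | h
    · exfalso
      have := Nat.le_of_dvd (Nat.pos_of_ne_zero hm0) (orderOf_dvd_of_pow_eq_one (Units.ext h : N ^ m = 1))
      omega
    · exact h
  set i := e₀ ^ m with hi
  have hii : i * i = N ^ m := by rw [hi, ← mul_pow, ← he₀]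
  set z := E.mat (i : F) 0 0 ((i⁻¹ : Fˣ) : F) (by simp) with hz
  have hzy : (y * y) ^ m = z := by
    apply E.inj
    rw [E.θ_diag, hii, map_pow, hy2]
    let D : Fˣ →* GL (Fin 2) F := MonoidHom.mk' dd fun a b => (dd_mul a b).symm
    exact (map_pow (innDiag 2 F) (dd N) m).symm.trans (congrArg (innDiag 2 F) (map_pow D N m).symm)
  have hzmem : z ∈ zpowers y := hzy ▸ pow_mem (mul_mem (mem_zpowers y) (mem_zpowers y)) m
  have hii' : (i : F) * i = -1 := by rw [← Units.val_mul, hii, hneg]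
  have h2F : (2 : F) ≠ 0 := fun h => by
    apply Nat.pos_of_ne_zero hm0 |>.ne'
    have : ((N ^ m : Fˣ) : F) = 1 := by rw [hneg]; linear_combination -h
    have := Nat.le_of_dvd (Nat.pos_of_ne_zero hm0) (orderOf_dvd_of_pow_eq_one (Units.ext this : N ^ m = 1))
    omega
  have hz2 : orderOf z = 2 := by
    refine orderOf_eq_two_of (fun hz1 => ?_) ?_
    · rw [hz, ← E.mat_one] at hz1
      obtain ⟨c, -, e1, -, -, e4⟩ := E.mat_inj hz1
      have hc : c = (i : F) := by
        have := congrArg (· * (i : F)) e4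
        simpa [mul_assoc] using this.symm
      rw [hc, hii'] at e1
      exact h2F (by linear_combination e1)
    · apply E.inj
      rw [map_mul, hz, E.θ_diag, semilin_dd_mul, map_one]
      have e : i * i * Units.map ((RingEquiv.refl F : F ≃+* F) : F →* F) (i * i) = 1 := by
        refine Units.ext ?_
        show ((i * i : Fˣ) : F) * ((i * i : Fˣ) : F) = 1
        rw [Units.val_mul, hii']; ring
      rw [e, dd_one]; exact semilin_one
  have hswz : E.sw * z = z * E.sw := by
    apply E.inj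
    rw [map_mul, map_mul, hz, E.θ_diag, sw, E.θ_mat, ← innDiag_apply, ← innDiag_apply, ← map_mul,
      ← map_mul]
    rw [← div_eq_one, ← map_div, innDiag, MonoidHom.coe_mk, OneHom.coe_mk, semilin_eq_one_iff le_rfl]
    refine ⟨rfl, -1, ?_⟩
    rw [div_eq_mul_inv, mul_inv_rev, ← mul_assoc]
    simp only [Units.val_mul, Matrix.coe_units_inv]
    rw [Matrix.mul_assoc]
    show (((Matrix.SpecialLinearGroup.toGL (sl2 (0 : F) 1 (-1) 0 (by ring)) : GL (Fin 2) F) :
      Matrix (Fin 2) (Fin 2) F) * (dd (i * i) : Matrix (Fin 2) (Fin 2) F)) * _ = _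
    have hdd : (dd (i * i) : Matrix (Fin 2) (Fin 2) F) = !![(-1 : F), 0; 0, 1] := by
      rw [coe_dd, Units.val_mul, hii']
    rw [hdd]
    show !![(0 : F), 1; -1, 0] * !![(-1 : F), 0; 0, 1] *
      ((!![(0 : F), 1; -1, 0])⁻¹ * (!![(-1 : F), 0; 0, 1])⁻¹) = _
    rw [Matrix.inv_def, Matrix.inv_def]
    simp only [Matrix.det_fin_two_of, Matrix.adjugate_fin_two_of]
    ext a b; fin_cases a <;> fin_cases b <;> simp [Matrix.mul_apply, Fin.sum_univ_two]
  obtain ⟨t, ht⟩ := mem_zpowers_iff.mp (hctx.conj_mem hz2 hzmem hswz)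
  -- the conjugate of `y` by the swap
  have hconj : E.θ (E.sw * y * E.sw⁻¹) = semilin (dd ν⁻¹) σ := by
    rw [map_mul, map_mul, map_inv, hy, sw, E.θ_mat, semilin_inv, semilin_mul, semilin_mul]
    set T : GL (Fin 2) F := Matrix.SpecialLinearGroup.toGL (sl2 (0 : F) 1 (-1) 0 (by ring)) with hT
    have hTm : (T : Matrix (Fin 2) (Fin 2) F) = !![(0 : F), 1; -1, 0] := rfl
    have hTi : ((T⁻¹ : GL (Fin 2) F) : Matrix (Fin 2) (Fin 2) F) = !![(0 : F), -1; 1, 0] := by
      refine Units.inv_eq_of_mul_eq_one_right ?_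
      rw [hTm]
      ext a b; fin_cases a <;> fin_cases b <;> simp [Matrix.mul_apply, Fin.sum_univ_two]
    have hfix : ((glMap σ (glMap (RingEquiv.refl F).symm T⁻¹) : GL (Fin 2) F) :
        Matrix (Fin 2) (Fin 2) F) = !![(0 : F), -1; 1, 0] := by
      rw [coe_glMap, coe_glMap, hTi]
      ext a b; fin_cases a <;> fin_cases b <;> simp
    set T' : GL (Fin 2) F := glMap σ (glMap (RingEquiv.refl F).symm T⁻¹) with hT'
    have e : (RingEquiv.refl F).symm.trans (σ.trans (RingEquiv.refl F)) = σ := RingEquiv.ext fun _ => rfl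
    have hM : T * glMap (RingEquiv.refl F) (dd ν) *
        glMap (σ.trans (RingEquiv.refl F)) (glMap (RingEquiv.refl F).symm T⁻¹) =
        Matrix.GeneralLinearGroup.scalar (Fin 2) ν * dd ν⁻¹ := by
      refine Units.ext ?_
      rw [Units.val_mul, Units.val_mul, Units.val_mul, hTm, coe_glMap, coe_dd,
        show σ.trans (RingEquiv.refl F) = σ from RingEquiv.ext fun _ => rfl, ← hT', hfix,
        Matrix.GeneralLinearGroup.coe_scalar, coe_dd, Matrix.scalar_apply]
      ext a b; fin_cases a <;> fin_cases b <;> simp [Matrix.mul_apply, Fin.sum_univ_two]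
    rw [e, hM, semilin_split, semilin_split (g := dd ν⁻¹)]
    congr 1
    rw [map_mul]
    rw [show innDiag 2 F (Matrix.GeneralLinearGroup.scalar (Fin 2) ν) = 1 by
      rw [innDiag_apply, semilin_eq_one_iff le_rfl]
      exact ⟨rfl, (ν : F), by
        rw [Matrix.GeneralLinearGroup.coe_scalar, Matrix.scalar_apply, ← Matrix.smul_one_eq_diagonal]⟩,
      one_mul]
  rw [← ht] at hconj
  -- powers of `y`
  have hpow : ∀ l : ℤ, E.θ ((y * y) ^ l) = semilin (dd (N ^ l)) (RingEquiv.refl F) := by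
    intro l
    rw [map_zpow, hy2, ← innDiag_apply, ← map_zpow, ← innDiag_apply]
    congr 1
    let D : Fˣ →* GL (Fin 2) F := MonoidHom.mk' dd fun a b => (dd_mul a b).symm
    exact (map_zpow D N l).symm
  obtain ⟨l, rfl | rfl⟩ : ∃ l, t = 2 * l ∨ t = 2 * l + 1 := Int.even_or_odd' t
  · rw [zpow_mul, show y ^ (2 : ℤ) = y * y from zpow_two y, hpow] at hconj
    have h1 := congrArg (fun β => β * (semilin (dd (N ^ l)) (RingEquiv.refl F))⁻¹) hconj
    simp only [mul_inv_cancel] at h1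
    rw [semilin_inv, semilin_mul] at h1
    exact hσ (by
      have h2 := ((semilin_eq_one_iff le_rfl _ _).mp h1.symm).1
      exact RingEquiv.ext fun x => congrArg (fun e : F ≃+* F => e x) h2)
  · rw [zpow_add_one, zpow_mul, show y ^ (2 : ℤ) = y * y from zpow_two y, map_mul, hpow, hy,
      semilin_dd_mul] at hconj
    rw [show σ.trans (RingEquiv.refl F) = σ from RingEquiv.ext fun _ => rfl,
      show Units.map ((RingEquiv.refl F : F ≃+* F) : F →* F) ν = ν from rfl, semilin_split,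
      semilin_split (g := dd ν⁻¹)] at hconj
    have h1 := mul_right_cancel hconj
    rw [← div_eq_one, ← map_div, innDiag_apply, semilin_eq_one_iff le_rfl] at h1
    obtain ⟨-, c, hc⟩ := h1
    have hdiv : dd (N ^ l * ν) / dd ν⁻¹ = dd (N ^ l * ν * ν) := by
      rw [div_eq_iff_eq_mul, dd_mul, mul_inv_cancel_right]
    rw [hdiv, coe_dd] at hc
    have e1 := congrFun (congrFun hc 1) 1
    have e0 := congrFun (congrFun hc 0) 0
    simp at e1 e0
    rw [← e1] at e0
    have e : N ^ l * ν * ν = 1 := Units.ext (by simpa using e0)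
    -- so `σ ν ^ 2 = ν ^ 2` and `σ` fixes every square
    have hsq : s (ν * ν) = ν * ν := by
      rw [mul_assoc, mul_eq_one_iff_eq_inv] at e
      have : ν * ν = (N ^ l)⁻¹ := by rw [e, inv_inv]
      rw [this, map_inv, map_zpow, hsN]
    have hall : ∀ x : F, σ (x * x) = x * x := by
      intro x
      rcases eq_or_ne x 0 with rfl | hx
      · simp
      obtain ⟨a, ha⟩ := mem_zpowers_iff.mp (hν (Units.mk0 x hx))
      have h : s (Units.mk0 x hx * Units.mk0 x hx) = Units.mk0 x hx * Units.mk0 x hx := by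
        rw [← ha, ← mul_zpow, map_zpow, hsq]
      simpa [hs] using congrArg Units.val h
    refine hz₀ ?_
    have h4 : (4 : F) ≠ 0 := by
      rw [show (4 : F) = 2 * 2 by norm_num]; exact mul_ne_zero h2F h2F
    have key : (4 : F) * z₀ = (z₀ + 1) * (z₀ + 1) - (z₀ - 1) * (z₀ - 1) := by ring
    have := congrArg σ key
    rw [map_mul, map_sub, hall, hall, ← key, map_ofNat] at this
    exact mul_left_cancel₀ h4 this

end Emb

end CfsgLib.EvenCyclic
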