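import Cfsg.Agent.Lib.OddGated5.EvenCyclic.Simple
import Cfsg.Agent.Lib.OddGated5.EvenCyclic.Twisted
import Cfsg.Agent.Lib.Components.Subnormal
import Cfsg.Agent.Lib.Classical.SmallIso
import Cfsg.Agent.Lib.Classical.Dickson.ClassifyPlatonic
import Cfsg.Agent.Lib.Known.AutPSL.FieldClass

/-!
# The classification
-/

set_option autoImplicit false
set_option linter.all false

namespace CfsgLib.EvenCyclic

open Subgroup CfsgLib.Signalizer CfsgLib.Known.AutPSL

universe u

variable {G : Type u} [Group G] [Finite G]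

namespace Ctx

variable (h : Ctx G)
include h

/-- Centralisers of involutions are solvable. -/
theorem solvable_cent {t : G} (ht : orderOf t = 2) :
    Group.IsSolvable ↥(centralizer ({t} : Set G)) := by
  set C := centralizer ({t} : Set G) with hC
  haveI hO : Group.IsSolvable ↥(Cfsg.oddCore ↥C) := h.ft _ (ZStar.odd_card_oddCore ↥C)
  have hp : IsPGroup 2 (↥C ⧸ Cfsg.oddCore ↥C) := fun q => by
    obtain ⟨x, rfl⟩ := QuotientGroup.mk_surjective q
    obtain ⟨x2, hx2, x', hx', ⟨k, hk⟩, ho, he⟩ := exists_two_odd (x : G)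
    refine ⟨k, ?_⟩
    rw [← QuotientGroup.mk_pow, QuotientGroup.eq_one_iff]
    have hc : Commute x2 x' := by
      obtain ⟨i, rfl⟩ := mem_zpowers_iff.mp hx2
      obtain ⟨j, rfl⟩ := mem_zpowers_iff.mp hx'
      exact (Commute.refl (x : G)).zpow_zpow i j
    have hxt : x' * t = t * x' := mem_cent.mp (zpowers_le.mpr x.2 hx')
    obtain ⟨y, hy, hye⟩ := (h.mem_oddPart ht).mpr ⟨hxt, ho⟩
    have : x ^ 2 ^ k = y ^ 2 ^ k := Subtype.ext (by
      rw [Subgroup.coe_pow, Subgroup.coe_pow, he, hc.mul_pow, ← hk, pow_orderOf_eq_one, one_mul]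
      exact congrArg (· ^ _) hye.symm)
    rw [this]
    exact pow_mem hy _
  haveI := hp.isNilpotent
  exact solvable_of_ker_le_range (Cfsg.oddCore ↥C).subtype (QuotientGroup.mk' (Cfsg.oddCore ↥C))
    (by rw [QuotientGroup.ker_mk', range_subtype])

theorem exists_involution {N : Subgroup G} (hN : ¬ Group.IsSolvable ↥N) :
    ∃ t ∈ N, orderOf t = 2 :=
  exists_involution_of_even (Nat.not_odd_iff_even.mp fun ho => hN (h.ft _ ho))

/-- A non-solvable subgroup centralises no involution. -/
theorem not_cent {L : Subgroup G} (hL : ¬ Group.IsSolvable ↥L) {t : G} (ht : orderOf t = 2)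
    (hc : ∀ x ∈ L, x * t = t * x) : False := by
  haveI := h.solvable_cent ht
  exact hL (Group.isSolvable_of_isSolvable_injective (f := Subgroup.inclusion (fun x hx => mem_cent.mpr (hc x hx)))
    (Subgroup.inclusion_injective _))

/-- The property passes to normal subgroups. -/
theorem normal {N : Subgroup G} (hN : N.Normal) : Ctx ↥N := by
  refine ⟨h.ft, ?_, ?_⟩
  · intro X hX hev Y hYX hY
    have key : ∀ Z : Subgroup ↥N, Subgroup.normalizer (Z : Set ↥N) =
        (Subgroup.normalizer ((Z.map N.subtype : Subgroup G) : Set G)).subgroupOf N := by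
      intro Z
      ext x
      rw [mem_subgroupOf, mem_normalizer_iff, mem_normalizer_iff]
      constructor
      · intro hx z
        constructor
        · rintro ⟨y, hy, rfl⟩
          exact ⟨x * y * x⁻¹, (hx y).mp hy, rfl⟩
        · rintro ⟨y, hy, hye⟩
          refine ⟨x⁻¹ * y * x, (hx _).mpr (by rwa [show x * (x⁻¹ * y * x) * x⁻¹ = y by group]), ?_⟩
          show ((x⁻¹ * y * x : ↥N) : G) = z
          rw [Subgroup.coe_mul, Subgroup.coe_mul, Subgroup.coe_inv, show (y : G) = x * z * (x : G)⁻¹ from hye]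
          group
      · intro hx y
        have h1 := hx (y : G)
        constructor
        · intro hy
          obtain ⟨z, hz, hze⟩ := h1.mp ⟨y, hy, rfl⟩
          have : z = x * y * x⁻¹ := Subtype.ext hze
          exact this ▸ hz
        · intro hy
          obtain ⟨z, hz, hze⟩ := h1.mpr ⟨x * y * x⁻¹, hy, rfl⟩
          have : z = y := Subtype.ext hze
          exact this ▸ hz
    haveI : IsCyclic ↥(X.map N.subtype) :=
      isCyclic_of_surjective (X.equivMapOfInjective N.subtype N.subtype_injective).toMonoidHom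
        (MulEquiv.surjective _)
    rw [key, key, h.hyp (X.map N.subtype) inferInstance
      (by rwa [Subgroup.card_map_of_injective N.subtype_injective]) (Y.map N.subtype)
      (Subgroup.map_mono hYX) (by rwa [Ne, Subgroup.map_eq_bot_iff_of_injective _ N.subtype_injective])]
  · intro L hL hs
    classical
    haveI := Fintype.ofFinite G
    -- the join of the conjugates of `L`
    let f : G → Subgroup ↥N := fun g => L.map (MulAut.conjNormal g : MulAut ↥N).toMonoidHom
    have hfn : ∀ g, (f g).Normal := fun g => hL.map _ (MulEquiv.surjective _)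
    have hfs : ∀ g, Group.IsSolvable ↥(f g) := fun g => by
      haveI := hs
      exact Group.isSolvable_of_surjective
        (f := (L.equivMapOfInjective (MulAut.conjNormal g : MulAut ↥N).toMonoidHom
          (MulEquiv.injective _)).toMonoidHom) (MulEquiv.surjective _)
    have hsup : ∀ s : Finset G, (s.sup f).Normal ∧ Group.IsSolvable ↥(s.sup f) := by
      intro s
      induction s using Finset.induction_on with
      | empty => exact ⟨by rw [Finset.sup_empty]; infer_instance, by rw [Finset.sup_empty]; infer_instance⟩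
      | insert g s hgs ih =>
        haveI := hfn g
        haveI := ih.1
        rw [Finset.sup_insert]
        exact ⟨Subgroup.sup_normal _ _, Components.isSolvable_sup Subgroup.le_normalizer_of_normal (hfs g) ih.2⟩
    obtain ⟨-, hsol⟩ := hsup Finset.univ
    set R := Finset.univ.sup f with hR
    have hRn : (R.map N.subtype).Normal := by
      refine ⟨fun z hz g => ?_⟩
      obtain ⟨y, hy, rfl⟩ := hz
      refine ⟨MulAut.conjNormal g y, ?_, by simp [MulAut.conjNormal_apply]⟩
      have : R.map (MulAut.conjNormal g : MulAut ↥N).toMonoidHom ≤ R := by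
        rw [hR, Finset.sup_eq_iSup]
        simp only [Subgroup.map_iSup]
        refine iSup₂_le fun k _ => ?_
        refine le_trans ?_ (le_iSup₂_of_le (g * k) (Finset.mem_univ _) le_rfl)
        simp only [f, Subgroup.map_map]
        rw [show ((MulAut.conjNormal g : MulAut ↥N).toMonoidHom.comp
          (MulAut.conjNormal k : MulAut ↥N).toMonoidHom) = (MulAut.conjNormal (g * k) : MulAut ↥N).toMonoidHom by
            rw [map_mul]; rfl]
      exact this ⟨y, hy, rfl⟩
    have hbot := h.radical _ hRn (Group.isSolvable_of_surjective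
      (f := (R.equivMapOfInjective N.subtype N.subtype_injective).toMonoidHom) (MulEquiv.surjective _))
    rw [Subgroup.map_eq_bot_iff_of_injective _ N.subtype_injective] at hbot
    rw [eq_bot_iff, ← hbot]
    intro x hx
    exact (Finset.le_sup (f := f) (Finset.mem_univ (1 : G))) ⟨x, hx, by simp [map_one]⟩

/-- A minimal normal subgroup is simple, non-abelian and has trivial centraliser. -/
theorem exists_simple [Nontrivial G] :
    ∃ N : Subgroup G, N.Normal ∧ IsSimpleGroup ↥N ∧ ¬ IsMulCommutative ↥N ∧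
      centralizer (N : Set G) = ⊥ := by
  obtain ⟨N, hN, hN1, hmin⟩ := Components.exists_minimal_normal (G := G)
  haveI := hN
  have hns : ¬ Group.IsSolvable ↥N := fun hs => hN1 (h.radical N hN hs)
  have hna : ¬ IsMulCommutative ↥N := fun hc => hns (by
    haveI := hc
    exact Group.isSolvable_of_comm (fun a b => hc.is_comm.comm a b))
  have hcen : centralizer (N : Set G) = ⊥ := by
    by_contra hC
    have hCn : (centralizer (N : Set G)).Normal := inferInstance
    have hCs : ¬ Group.IsSolvable ↥(centralizer (N : Set G)) := fun hs => hC (h.radical _ hCn hs)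
    obtain ⟨t, htC, ht⟩ := h.exists_involution hCs
    exact h.not_cent hns ht fun x hx => mem_centralizer_iff.mp htC x hx
  refine ⟨N, hN, ?_, hna, hcen⟩
  haveI : Nontrivial ↥N := N.nontrivial_iff_ne_bot.mpr hN1
  refine ⟨fun L hL => ?_⟩
  by_contra hcon
  push Not at hcon
  obtain ⟨L0, hL0, hL01, hL0L, hL0min⟩ := Components.exists_minimal_normal_le hL hcon.1
  have hL0s : ¬ Group.IsSolvable ↥L0 := fun hs => hL01 ((h.normal hN).radical L0 hL0 hs)
  by_cases hall : ∀ g : G, L0.map (MulAut.conjNormal g : MulAut ↥N).toMonoidHom = L0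
  · have hn : (L0.map N.subtype).Normal := ⟨fun z hz g => by
      obtain ⟨y, hy, rfl⟩ := hz
      exact ⟨MulAut.conjNormal g y, (hall g).le ⟨y, hy, rfl⟩, by simp [MulAut.conjNormal_apply]⟩⟩
    rcases hmin _ hn (map_subtype_le L0) with e | e
    · exact hL01 ((Subgroup.map_eq_bot_iff_of_injective _ N.subtype_injective).mp e)
    · refine hcon.2 (eq_top_iff.mpr fun x _ => hL0L ?_)
      obtain ⟨y, hy, hye⟩ := e.ge x.2
      exact (Subtype.ext hye : y = x) ▸ hy
  push Not at hall
  obtain ⟨g, hg⟩ := hall
  set L1 := L0.map (MulAut.conjNormal g : MulAut ↥N).toMonoidHom with hL1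
  haveI : L1.Normal := hL0.map _ (MulEquiv.surjective _)
  haveI := hL0
  have hdis : Disjoint L0 L1 := by
    rw [disjoint_iff]
    rcases hL0min (L0 ⊓ L1) inferInstance inf_le_left with e | e
    · exact e
    · exfalso
      exact hg (Subgroup.eq_of_le_of_card_ge (e ▸ inf_le_right)
        (by rw [hL1, Subgroup.card_map_of_injective (MulEquiv.injective _)])).symm
  have hs1 : ¬ Group.IsSolvable ↥(L1.map N.subtype) := by
    intro hs
    refine hL0s ?_
    haveI := hs
    exact Group.isSolvable_of_isSolvable_injective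
      (f := ((L0.equivMapOfInjective (MulAut.conjNormal g : MulAut ↥N).toMonoidHom (MulEquiv.injective _)).trans
        (L1.equivMapOfInjective N.subtype N.subtype_injective)).toMonoidHom) (MulEquiv.injective _)
  have hs0 : ¬ Group.IsSolvable ↥(L0.map N.subtype) := fun hs => hL0s (by
    haveI := hs
    exact Group.isSolvable_of_isSolvable_injective (f := (L0.equivMapOfInjective N.subtype N.subtype_injective).toMonoidHom)
      (MulEquiv.injective _))
  obtain ⟨t, ⟨t', ht', rfl⟩, ht⟩ := h.exists_involution hs1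
  refine h.not_cent hs0 ht ?_
  rintro _ ⟨x, hx, rfl⟩
  exact congrArg Subtype.val (Subgroup.commute_of_normal_of_disjoint L0 L1 hL0 inferInstance hdis x t' hx ht').eq

end Ctx

namespace Emb

variable {F : Type} [Field F] [Fintype F] (E : Emb G F)

omit [Finite G] in
/-- An inner-diagonal element of square determinant is inner. -/
theorem mem_range_of_square {g : G} {k : GL (Fin 2) F} {e : Fˣ}
    (hg : E.θ g = innDiag 2 F k) (he : Matrix.GeneralLinearGroup.det k = e * e) : g ∈ E.ι.range := by
  set S : GL (Fin 2) F := Matrix.GeneralLinearGroup.scalar (Fin 2) e⁻¹ * k with hS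
  have hsc : ∀ u : Fˣ, innDiag 2 F (Matrix.GeneralLinearGroup.scalar (Fin 2) u) = 1 := fun u => by
    rw [innDiag_apply, semilin_eq_one_iff le_rfl]
    exact ⟨rfl, (u : F), by
      rw [Matrix.GeneralLinearGroup.coe_scalar, Matrix.scalar_apply, ← Matrix.smul_one_eq_diagonal]⟩
  have hdet : (S : Matrix (Fin 2) (Fin 2) F).det = 1 := by
    have h1 := congrArg Units.val he
    rw [Matrix.GeneralLinearGroup.val_det_apply, Units.val_mul] at h1
    rw [hS, Units.val_mul, Matrix.det_mul, Matrix.GeneralLinearGroup.coe_scalar, Matrix.scalar_apply,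
      Matrix.det_diagonal, Fin.prod_univ_two, h1, mul_mul_mul_comm, ← Units.val_mul, inv_mul_cancel,
      Units.val_one, one_mul]
  set A : CfsgLib.Known.AutPSL.SL 2 F := ⟨(S : Matrix (Fin 2) (Fin 2) F), hdet⟩ with hA
  refine ⟨proj 2 F A, E.inj ?_⟩
  rw [E.hι, conj_eq_semilin, show Matrix.SpecialLinearGroup.toGL A = S from Units.ext rfl, hg,
    ← innDiag_apply, hS, map_mul, hsc, one_mul]

/-- The two possibilities. -/
theorem conclude (E : Emb G F) (hctx : Ctx G) (h5 : 4 < Fintype.card F) :
    Nonempty (G ≃* Matrix.ProjectiveSpecialLinearGroup (Fin 2) F) ∨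
      Nonempty (G ≃* Matrix.ProjGenLinGroup (Fin 2) F) := by
  classical
  have hinn : ∀ g : G, ∃ k : GL (Fin 2) F, E.θ g = innDiag 2 F k := fun g => by
    obtain ⟨k, σ, hk | ⟨h3, -⟩⟩ := exists_eq_semilin (le_refl 2) (E.θ g)
    · exact ⟨k, by rw [hk, E.no_semilinear hctx h5 hk, innDiag_apply]⟩
    · omega
  have hιinj : Function.Injective E.ι := fun x y hxy => by
    obtain ⟨A, rfl⟩ := proj_surjective x
    obtain ⟨B, rfl⟩ := proj_surjective y
    exact (proj_eq_iff A B).mpr (E.ι_proj_inj hxy)
  by_cases hsurj : ∀ g : G, g ∈ E.ι.range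
  · exact Or.inl ⟨(MulEquiv.ofBijective E.ι ⟨hιinj, fun g => hsurj g⟩).symm⟩
  push Not at hsurj
  obtain ⟨g0, hg0⟩ := hsurj
  obtain ⟨k0, hk0⟩ := hinn g0
  obtain ⟨ν, hν⟩ := IsCyclic.exists_generator (α := Fˣ)
  obtain ⟨i0, hi0⟩ := mem_zpowers_iff.mp (hν (Matrix.GeneralLinearGroup.det k0))
  have hi0odd : Odd i0 := by
    by_contra hev
    obtain ⟨j, hj⟩ := Int.not_odd_iff_even.mp hev
    exact hg0 (E.mem_range_of_square hk0 (e := ν ^ j) (by rw [← hi0, hj, zpow_add]))
  have hrange : E.θ.range = (innDiag 2 F).range := by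
    refine le_antisymm ?_ ?_
    · rintro _ ⟨g, rfl⟩
      obtain ⟨k, hk⟩ := hinn g
      exact ⟨k, hk.symm⟩
    · have hsq : ∀ k : GL (Fin 2) F, (∃ e : Fˣ, Matrix.GeneralLinearGroup.det k = e * e) →
          innDiag 2 F k ∈ E.θ.range := by
        intro k ⟨e, he⟩
        have hsc : innDiag 2 F (Matrix.GeneralLinearGroup.scalar (Fin 2) e⁻¹) = 1 := by
          rw [innDiag_apply, semilin_eq_one_iff le_rfl]
          exact ⟨rfl, ((e⁻¹ : Fˣ) : F), by
            rw [Matrix.GeneralLinearGroup.coe_scalar, Matrix.scalar_apply, ← Matrix.smul_one_eq_diagonal]⟩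
        set S : GL (Fin 2) F := Matrix.GeneralLinearGroup.scalar (Fin 2) e⁻¹ * k with hS
        have hdet : (S : Matrix (Fin 2) (Fin 2) F).det = 1 := by
          have h1 := congrArg Units.val he
          rw [Matrix.GeneralLinearGroup.val_det_apply, Units.val_mul] at h1
          rw [hS, Units.val_mul, Matrix.det_mul, Matrix.GeneralLinearGroup.coe_scalar, Matrix.scalar_apply,
            Matrix.det_diagonal, Fin.prod_univ_two, h1, mul_mul_mul_comm, ← Units.val_mul, inv_mul_cancel,
            Units.val_one, one_mul]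
        set A : CfsgLib.Known.AutPSL.SL 2 F := ⟨(S : Matrix (Fin 2) (Fin 2) F), hdet⟩ with hA
        refine ⟨E.ι (proj 2 F A), ?_⟩
        rw [E.hι, conj_eq_semilin, show Matrix.SpecialLinearGroup.toGL A = S from Units.ext rfl,
          ← innDiag_apply, hS, map_mul, hsc, one_mul]
      rintro _ ⟨k, rfl⟩
      obtain ⟨i, hi⟩ := mem_zpowers_iff.mp (hν (Matrix.GeneralLinearGroup.det k))
      rcases Int.even_or_odd i with ⟨j, hj⟩ | hio
      · exact hsq k ⟨ν ^ j, by rw [← hi, hj, zpow_add]⟩
      · obtain ⟨j, hj⟩ := hio.add_odd hi0odd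
        have h1 := hsq (k * k0) ⟨ν ^ j, by rw [map_mul, ← hi, ← hi0, ← zpow_add, hj, zpow_add]⟩
        rw [map_mul, ← hk0] at h1
        have := mul_mem h1 (inv_mem ⟨g0, rfl⟩ : (E.θ g0)⁻¹ ∈ E.θ.range)
        rwa [mul_inv_cancel_right] at this
  have hker : (innDiag 2 F).ker = Subgroup.center (GL (Fin 2) F) := by
    ext k
    rw [MonoidHom.mem_ker, innDiag_eq_one_iff le_rfl, Matrix.GeneralLinearGroup.center_eq_range_scalar]
    constructor
    · rintro ⟨c, hc⟩
      have hc0 : c ≠ 0 := fun h0 => by
        rw [h0, zero_smul] at hc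
        exact Units.ne_zero k hc
      exact ⟨Units.mk0 c hc0, Units.ext (by
        rw [Matrix.GeneralLinearGroup.coe_scalar, Matrix.scalar_apply, ← Matrix.smul_one_eq_diagonal,
          Units.val_mk0, hc])⟩
    · rintro ⟨c, rfl⟩
      exact ⟨(c : F), by
        rw [Matrix.GeneralLinearGroup.coe_scalar, Matrix.scalar_apply, ← Matrix.smul_one_eq_diagonal]⟩
  refine Or.inr ⟨(MonoidHom.ofInjective E.inj).trans ((MulEquiv.subgroupCongr hrange).trans
    ((QuotientGroup.quotientKerEquivRange (innDiag 2 F)).symm.trans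
      (QuotientGroup.quotientMulEquivOfEq hker)))⟩

end Emb

/-- The classification. -/
theorem classify [Nontrivial G] (h : Ctx G) :
    ∃ (F : Type) (_ : Field F) (_ : Fintype F), 3 < Fintype.card F ∧
      (Nonempty (G ≃* Matrix.ProjectiveSpecialLinearGroup (Fin 2) F) ∨
        Nonempty (G ≃* Matrix.ProjGenLinGroup (Fin 2) F)) := by
  classical
  obtain ⟨N, hN, hNs, hna, hcen⟩ := h.exists_simple
  haveI := hN
  haveI := hNs
  obtain ⟨F0, iF, iFt, ⟨e0⟩⟩ := simple_psl hna (h.normal hN)
  -- at least five elements in the field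
  obtain ⟨F, iF', iFt', h5, ⟨e⟩⟩ : ∃ (F : Type) (_ : Field F) (_ : Fintype F), 4 < Fintype.card F ∧
      Nonempty (↥N ≃* Matrix.ProjectiveSpecialLinearGroup (Fin 2) F) := by
    by_cases hbig : 4 < Fintype.card F0
    · exact ⟨F0, iF, iFt, hbig, ⟨e0⟩⟩
    by_cases h4 : Fintype.card F0 = 4
    · haveI : Fact (Nat.Prime 5) := ⟨by norm_num⟩
      obtain ⟨φ⟩ := CfsgLib.Classical.Dickson.psl_four_five_equiv F0 (Or.inl h4)
      obtain ⟨ψ⟩ := CfsgLib.Classical.Dickson.psl_four_five_equiv (ZMod 5) (Or.inr (ZMod.card 5))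
      exact ⟨ZMod 5, inferInstance, inferInstance, by simp, ⟨e0.trans (φ.symm.trans ψ)⟩⟩
    exfalso
    have hle : Fintype.card F0 = 2 ∨ Fintype.card F0 = 3 := by
      have := Fintype.one_lt_card (α := F0); omega
    have hc := CfsgLib.Classical.Two.card_PSL_two (F := F0)
    rw [← Nat.card_congr e0.toEquiv] at hc
    rcases hle with e | e <;> rw [e] at hc <;> norm_num at hc
    · -- order six
      haveI : Fact (Nat.Prime 3) := ⟨Nat.prime_three⟩
      obtain ⟨x, hx⟩ := exists_prime_orderOf_dvd_card' (G := ↥N) 3 (by rw [hc]; norm_num)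
      have hidx : (zpowers x).index = 2 := by
        have h1 := (zpowers x).card_mul_index
        rw [Nat.card_zpowers, hx, hc] at h1
        omega
      haveI := Subgroup.normal_of_index_eq_two hidx
      rcases (inferInstance : (zpowers x).Normal).eq_bot_or_eq_top with hb | hb
      · rw [zpowers_eq_bot] at hb; rw [hb, orderOf_one] at hx; norm_num at hx
      · rw [hb, Subgroup.index_top] at hidx; norm_num at hidx
    · exact PGroups.BSW.card_ne_twelve (G := ↥N) (by omega)
  let θ : G →* MulAut (Matrix.ProjectiveSpecialLinearGroup (Fin 2) F) :=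
    (MulAut.congr e).toMonoidHom.comp MulAut.conjNormal
  have hθ : Function.Injective θ := by
    rw [injective_iff_map_eq_one]
    intro g hg
    have h1 : MulAut.conjNormal g = (1 : MulAut ↥N) := (MulAut.congr e).map_eq_one_iff.mp hg
    rw [← Subgroup.mem_bot, ← hcen, mem_centralizer_iff]
    intro x hx
    have := congrArg (fun β : MulAut ↥N => ((β ⟨x, hx⟩ : ↥N) : G)) h1
    simp [MulAut.conjNormal_apply] at this
    exact (mul_inv_eq_iff_eq_mul.mp this).symm
  let E : Emb G F :=
    { θ := θ, inj := hθ, ι := N.subtype.comp e.symm.toMonoidHom,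
      hι := fun x => MulEquiv.ext fun y => by
        show e (MulAut.conjNormal ((e.symm x : ↥N) : G) (e.symm y)) = x * y * x⁻¹
        have : MulAut.conjNormal ((e.symm x : ↥N) : G) (e.symm y) = e.symm x * e.symm y * (e.symm x)⁻¹ :=
          Subtype.ext (by simp [MulAut.conjNormal_apply])
        rw [this, map_mul, map_mul, map_inv, e.apply_symm_apply, e.apply_symm_apply] }
  exact ⟨F, iF', iFt', by omega, E.conclude h h5⟩

end CfsgLib.EvenCyclic
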