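import Cfsg.Agent.Lib.OddGated5.EvenCyclic.Embedded
import Cfsg.Agent.Lib.Perm.ZassenhausKernelBound

/-!
# An involution is the only involution centralising an odd element of its centraliser
-/

set_option autoImplicit false
set_option linter.all false

namespace CfsgLib.EvenCyclic

open Subgroup MulAction CfsgLib.Signalizer CfsgLib.TwoGroups

universe u

variable {G : Type u} [Group G] [Finite G]

namespace Pair

variable {t e a : G} (p : Pair t e a)

/-- The base point of the coset space of the envelope. -/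
abbrev base (t : G) : G ⧸ envelope t := ((1 : G) : G ⧸ envelope t)

omit [Finite G] in
theorem fix_base (t g : G) : g • base t = base t ↔ g ∈ envelope t := by
  rw [SE.smul_mk_eq_iff]; simp

/-- The stabiliser of the base point and of `y`. -/
abbrev pairStab (t : G) (y : G ⧸ envelope t) : Subgroup G :=
  envelope t ⊓ stabilizer G y

include p

theorem comm_eq_one {y : G ⧸ envelope t} (hy : y ≠ base t) {d : G} (hd : d ∈ pairStab t y)
    (hdt : d * t = t * d) : d = 1 := by
  by_contra hd1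
  obtain ⟨g, rfl⟩ := QuotientGroup.mk_surjective y
  have hg : g ∉ envelope t := fun h => hy (QuotientGroup.eq.mpr (by simpa using h))
  haveI : Nonempty {i : G // orderOf i = 2 ∧ i • base t = (g : G ⧸ envelope t)} := by
    refine (Nat.card_pos_iff.1 ?_).1
    rw [SE.card_swapping p.stronglyEmbedded _ _ hy.symm]
    haveI : Nonempty {x : G // orderOf x = 2 ∧ x ∈ envelope t} :=
      ⟨⟨t, p.ht, le_envelope (mem_cent.mpr rfl)⟩⟩
    exact Nat.card_pos
  obtain ⟨w, hw, hwx⟩ := Classical.arbitrary {i : G // orderOf i = 2 ∧ i • base t = (g : G ⧸ envelope t)}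
  have hwy : w • (g : G ⧸ envelope t) = base t := by
    rw [← hwx, ← mul_smul, involution_sq hw, one_smul]
  have hwM : w ∉ envelope t := fun h => hy (by rw [← hwx, (fix_base t w).mpr h])
  -- the conjugate of `d` by `w`
  set d' := w * d * w⁻¹ with hd'
  have hd'1 : d' ≠ 1 := fun h => hd1 (conj_eq_one_iff.mp h)
  have hd'D : d' ∈ pairStab t (g : G ⧸ envelope t) := by
    refine ⟨(fix_base t d').mp ?_, MulAction.mem_stabilizer_iff.mpr ?_⟩
    · rw [hd', mul_smul, mul_smul, involution_inv hw, hwx, hd.2, hwy]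
    · rw [hd', mul_smul, mul_smul, involution_inv hw, hwy, (fix_base t d).mpr hd.1, hwx]
  have hww : w⁻¹ * d' * w = d := by rw [hd']; group
  have hd't : (w⁻¹ * d' * w) * t = t * (w⁻¹ * d' * w) := by rw [hww]; exact hdt
  -- the commutator lies in `C(t)` and in `w C(t) w⁻¹`
  have hc1 : (d * d' * d⁻¹ * d'⁻¹) * t = t * (d * d' * d⁻¹ * d'⁻¹) := by
    have h1 := (mem_envelope.mp hd'D.1 d⁻¹).mp
      (mem_cent.mp (inv_mem (mem_cent.mpr hdt)))
    have h2 := mul_mem (mem_cent.mpr hdt) (mem_cent.mpr h1)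
    rw [show d * (d' * d⁻¹ * d'⁻¹) = d * d' * d⁻¹ * d'⁻¹ by group] at h2
    exact mem_cent.mp h2
  have hc2 : (w⁻¹ * (d * d' * d⁻¹ * d'⁻¹) * w) * t = t * (w⁻¹ * (d * d' * d⁻¹ * d'⁻¹) * w) := by
    have hm : w⁻¹ * d * w ∈ envelope t := by
      rw [← fix_base, mul_smul, mul_smul, hwx, hd.2, involution_inv hw, hwy]
    have h1 := (mem_envelope.mp hm d).mp hdt
    have h2 := mul_mem (mem_cent.mpr h1) (inv_mem (mem_cent.mpr hdt))
    rw [show w⁻¹ * d * w * d * (w⁻¹ * d * w)⁻¹ * d⁻¹ = w⁻¹ * (d * d' * d⁻¹ * d'⁻¹) * w by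
      rw [hd']; group] at h2
    exact mem_cent.mp h2
  have hcom := p.inter_conj hwM hc1 hc2
  rw [mul_inv_eq_one, mul_inv_eq_iff_eq_mul] at hcom
  have hd'C : d' * t = t * d' := p.cent_sub hdt hd1 hcom.symm
  exact hd'1 (p.inter_conj hwM hd'C hd't)

theorem card_same_two : 2 ≤ Nat.card {x : G // orderOf x = 2 ∧ x ∈ envelope t} := by
  have h1 : ∀ x, Same t x → x ∈ envelope t := fun x hx =>
    le_envelope (mem_cent.mpr (p.same_commute hx p.same_t))
  let f : Bool → {x : G // orderOf x = 2 ∧ x ∈ envelope t} := fun b =>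
    if b then ⟨t, p.ht, h1 t p.same_t⟩ else ⟨e, p.he, h1 e p.same_e⟩
  have hf : Function.Injective f := by
    intro b c hbc
    cases b <;> cases c <;> simp_all [f, p.ne, Ne.symm p.ne]
  calc 2 = Nat.card Bool := by simp
    _ ≤ _ := Nat.card_le_card_of_injective f hf

theorem card_pairStab {y : G ⧸ envelope t} (hy : y ≠ base t) :
    Nat.card ↥(pairStab t y) = Nat.card {x : G // orderOf x = 2 ∧ x ∈ envelope t} := by
  have htM : t ∈ envelope t := le_envelope (mem_cent.mpr rfl)
  refine Nat.card_eq_of_bijective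
    (fun d : ↥(pairStab t y) => (⟨(d : G) * t * (d : G)⁻¹, (orderOf_conj _ t).trans p.ht,
      mul_mem (mul_mem d.2.1 htM) (inv_mem d.2.1)⟩ : {x : G // orderOf x = 2 ∧ x ∈ envelope t}))
    ⟨?_, ?_⟩
  · intro d d' h
    have h' : (d : G) * t * (d : G)⁻¹ = (d' : G) * t * (d' : G)⁻¹ := congrArg Subtype.val h
    have h1 := p.comm_eq_one hy (d := (d' : G)⁻¹ * d) (mul_mem (inv_mem d'.2) d.2) (by
      calc (d' : G)⁻¹ * d * t = (d' : G)⁻¹ * ((d : G) * t * (d : G)⁻¹) * d := by group
        _ = t * ((d' : G)⁻¹ * d) := by rw [h']; group)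
    exact Subtype.ext (inv_mul_eq_one.mp h1).symm
  · rintro ⟨s, hs, hsM⟩
    obtain ⟨d, hdx, hdy, hd⟩ := SE.exists_conj_fixing p.stronglyEmbedded hy.symm p.ht
      ((fix_base t t).mpr htM) hs ((fix_base t s).mpr hsM)
    exact ⟨⟨d, (fix_base t d).mp hdx, hdy⟩, Subtype.ext hd⟩

/-- A swap of the base point and `y` inverts the two-point stabiliser. -/
theorem swap_inverts {y : G ⧸ envelope t} (hy : y ≠ base t) :
    ∃ w : G, orderOf w = 2 ∧ w • base t = y ∧ w • y = base t ∧
      ∀ d ∈ pairStab t y, w * d * w⁻¹ = d⁻¹ ∧ orderOf (w * d) = 2 := by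
  have hc := SE.card_swapping p.stronglyEmbedded _ _ hy.symm
  rw [← p.card_pairStab hy] at hc
  haveI : Nonempty {i : G // orderOf i = 2 ∧ i • base t = y} := by
    refine (Nat.card_pos_iff.1 ?_).1
    rw [hc]; exact Nat.card_pos
  obtain ⟨w, hw, hwx⟩ := Classical.arbitrary {i : G // orderOf i = 2 ∧ i • base t = y}
  have hback : ∀ v : G, orderOf v = 2 → v • base t = y → v • y = base t := fun v hv h => by
    rw [← h, ← mul_smul, involution_sq hv, one_smul]
  let φ : {i : G // orderOf i = 2 ∧ i • base t = y} → ↥(pairStab t y) := fun v => ⟨w * v.1,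
    (fix_base t _).mp (by rw [mul_smul, v.2.2, hback w hw hwx]),
    MulAction.mem_stabilizer_iff.mpr (by rw [mul_smul, hback v.1 v.2.1 v.2.2, hwx])⟩
  have hφ : Function.Injective φ := fun u v h =>
    Subtype.ext (mul_left_cancel (congrArg Subtype.val h : w * u.1 = w * v.1))
  refine ⟨w, hw, hwx, hback w hw hwx, fun d hd => ?_⟩
  obtain ⟨⟨v, hv, hvx⟩, hvd⟩ := (hφ.bijective_of_nat_card_le hc.ge).2 ⟨d, hd⟩
  obtain rfl : w * v = d := congrArg Subtype.val hvd
  refine ⟨?_, ?_⟩
  · rw [mul_inv_rev, involution_inv hw, involution_inv hv, ← mul_assoc, involution_sq hw, one_mul]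
  · rw [← mul_assoc, involution_sq hw, one_mul, hv]

theorem pairStab_comm {y : G ⧸ envelope t} (hy : y ≠ base t) {d d' : G} (hd : d ∈ pairStab t y)
    (hd' : d' ∈ pairStab t y) : d * d' = d' * d := by
  obtain ⟨w, -, -, -, hw⟩ := p.swap_inverts hy
  have h := (hw _ (mul_mem hd hd')).1
  rw [mul_inv_rev, show w * (d * d') * w⁻¹ = (w * d * w⁻¹) * (w * d' * w⁻¹) by group,
    (hw d hd).1, (hw d' hd').1] at h
  have := inv_injective (((mul_inv_rev d' d).trans h).trans (mul_inv_rev d d').symm)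
  exact this.symm

/-- An element of the envelope is a product of one of `C(t)` and one of the two-point stabiliser. -/
theorem exists_decomp {y : G ⧸ envelope t} (hy : y ≠ base t) {m : G} (hm : m ∈ envelope t) :
    ∃ c d : G, c * t = t * c ∧ d ∈ pairStab t y ∧ m = c * d := by
  have hsame : Same t (m * t * m⁻¹) := same_conj hm p.same_t
  have htM : t ∈ envelope t := le_envelope (mem_cent.mpr rfl)
  obtain ⟨d, hdx, hdy, hd⟩ := SE.exists_conj_fixing p.stronglyEmbedded hy.symm p.ht
    ((fix_base t t).mpr htM) hsame.1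
    ((fix_base t _).mpr (mul_mem (mul_mem hm htM) (inv_mem hm)))
  have hdM := (fix_base t d).mp hdx
  refine ⟨m * d⁻¹, d, ?_, ⟨hdM, hdy⟩, by group⟩
  have h1 : (d⁻¹ * m) * t = t * (d⁻¹ * m) := by
    calc d⁻¹ * m * t = d⁻¹ * (m * t * m⁻¹) * m := by group
      _ = t * (d⁻¹ * m) := by rw [← hd]; group
  have := (mem_envelope.mp hdM _).mp h1
  rw [show d * (d⁻¹ * m) * d⁻¹ = m * d⁻¹ by group] at this
  exact this

/-- A non-trivial element of the envelope fixes at most one further point. -/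
theorem eq_of_fix {y z : G ⧸ envelope t} (hy : y ≠ base t) (hz : z ≠ base t) {d : G}
    (hd : d ∈ pairStab t y) (hdz : d ∈ pairStab t z) (hd1 : d ≠ 1) : z = y := by
  by_contra hzy
  obtain ⟨w, hw, hwx, hwy, hwd⟩ := p.swap_inverts hy
  obtain ⟨v, hv, hvx, hvz, hvd⟩ := p.swap_inverts hz
  set q := w * v with hq
  have hqd : q * d * q⁻¹ = d := by
    rw [hq, show w * v * d * (w * v)⁻¹ = w * (v * d * v⁻¹) * w⁻¹ by group, (hvd d hdz).1, ← conj_inv,
      (hwd d hd).1, inv_inv]
  have hqx : q • base t ≠ base t := by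
    rw [hq, mul_smul, hvx, ← hwy]
    exact fun h => hzy (MulAction.injective w h)
  have hqd' : d ∈ pairStab t (q • base t) := by
    refine ⟨hd.1, MulAction.mem_stabilizer_iff.mpr ?_⟩
    rw [← mul_smul, show d * q = q * d by nth_rewrite 1 [← hqd]; group, mul_smul,
      (fix_base t d).mpr hd.1]
  obtain ⟨u, hu, hux, huy, hud⟩ := p.swap_inverts hqx
  have hmM : u * q ∈ envelope t := (fix_base t _).mp (by rw [mul_smul, huy])
  have hmd : (u * q) * d * (u * q)⁻¹ = d⁻¹ := by
    rw [show u * q * d * (u * q)⁻¹ = u * (q * d * q⁻¹) * u⁻¹ by group, hqd, (hud d hqd').1]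
  obtain ⟨c, d0, hc, hd0, hm⟩ := p.exists_decomp hy hmM
  rw [hm, show c * d0 * d * (c * d0)⁻¹ = c * (d0 * d * d0⁻¹) * c⁻¹ by group,
    p.pairStab_comm hy hd0 hd, mul_inv_cancel_right] at hmd
  have hdd : d * d = 1 := by
    refine p.comm_eq_one hy (mul_mem hd hd) ?_
    have e : d * d = (d * c * d⁻¹) * c⁻¹ := by
      calc d * d = d * (c * d * c⁻¹)⁻¹ := by rw [hmd, inv_inv]
        _ = (d * c * d⁻¹) * c⁻¹ := by group
    have := mul_mem (mem_cent.mpr ((mem_envelope.mp hd.1 c).mp hc)) (inv_mem (mem_cent.mpr hc))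
    rw [← e] at this
    exact mem_cent.mp this
  have hodd : Odd (orderOf d) := SE.odd_orderOf_of_fixes p.stronglyEmbedded hy.symm
    ((fix_base t d).mpr hd.1) hd.2
  exact hd1 (ZStar.eq_one_of_odd_of_sq hodd (by rw [pow_two]; exact hdd))

theorem false : False := by
  classical
  have hSE := p.stronglyEmbedded
  haveI := Fintype.ofFinite G
  haveI : Fintype (G ⧸ envelope t) := Fintype.ofFinite _
  obtain ⟨g, -, hg⟩ := SetLike.exists_of_lt (lt_top_iff_ne_top.mpr hSE.1)
  set y₀ : G ⧸ envelope t := (g : G ⧸ envelope t) with hy₀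
  have hy₀x : y₀ ≠ base t := fun h => hg (by simpa using inv_mem (QuotientGroup.eq.mp h))
  set C := centralizer ({t} : Set G) with hC
  set ne' := Nat.card {x : G // orderOf x = 2 ∧ x ∈ envelope t} with hne'
  have hne2 : 2 ≤ ne' := p.card_same_two
  -- the envelope has order `|C| * ne'`
  have hCM : C ≤ envelope t := le_envelope
  have hcardM : Nat.card ↥(envelope t) = Nat.card ↥C * ne' := by
    rw [hne', ← p.card_pairStab hy₀x, ← Nat.card_prod]
    refine (Nat.card_eq_of_bijective (fun x : ↥C × ↥(pairStab t y₀) =>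
      (⟨(x.1 : G) * x.2, mul_mem (hCM x.1.2) x.2.2.1⟩ : ↥(envelope t))) ⟨?_, ?_⟩).symm
    · rintro ⟨c, d⟩ ⟨c', d'⟩ h
      have h' : (c : G) * d = c' * d' := congrArg Subtype.val h
      have h1 : (d' : G) * (d : G)⁻¹ = (c' : G)⁻¹ * c := by
        calc (d' : G) * (d : G)⁻¹ = (c' : G)⁻¹ * (c' * d') * (d : G)⁻¹ := by group
          _ = _ := by rw [← h']; group
      have h2 := p.comm_eq_one hy₀x (mul_mem d'.2 (inv_mem d.2))
        (mem_cent.mp (h1 ▸ mul_mem (inv_mem c'.2) c.2))
      have hd : d = d' := Subtype.ext (mul_inv_eq_one.mp h2).symm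
      subst hd
      exact Prod.ext (Subtype.ext (mul_right_cancel h')) rfl
    · rintro ⟨m, hm⟩
      obtain ⟨c, d, hc, hd, rfl⟩ := p.exists_decomp hy₀x hm
      exact ⟨(⟨c, mem_cent.mpr hc⟩, ⟨d, hd⟩), rfl⟩
  -- `C` is semiregular on the other points
  have hsemi : ∀ c ∈ C, ∀ z : G ⧸ envelope t, z ≠ base t → c • z = z → c = 1 := fun c hc z hz h =>
    p.comm_eq_one hz ⟨hCM hc, h⟩ (mem_cent.mp hc)
  let Z := {z : G ⧸ envelope t // z ≠ base t}
  let ψ : ↥C → Z := fun c => ⟨(c : G) • y₀, fun h => hy₀x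
    (MulAction.injective (c : G) (h.trans ((fix_base t c).mpr (hCM c.2)).symm))⟩
  have hψ : Function.Injective ψ := by
    intro c c' h
    have h' : (c : G) • y₀ = (c' : G) • y₀ := congrArg Subtype.val h
    have := hsemi ((c' : G)⁻¹ * c) (mul_mem (inv_mem c'.2) c.2) y₀ hy₀x
      (by rw [mul_smul, h', inv_smul_smul])
    exact Subtype.ext (inv_mul_eq_one.mp this).symm
  let χ : (Σ z : Z, {d : ↥(pairStab t z.1) // d ≠ 1}) →
      {m : ↥(envelope t) // (m : G) ∉ C} := fun q => ⟨⟨(q.2.1 : G), q.2.1.2.1⟩, fun hm =>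
        q.2.2 (Subtype.ext (p.comm_eq_one q.1.2 q.2.1.2 (mem_cent.mp hm)))⟩
  have hχ : Function.Injective χ := by
    rintro ⟨z, d, hd⟩ ⟨z', d', hd'⟩ h
    have h' : (d : G) = d' := congrArg (fun m : {m : ↥(envelope t) // (m : G) ∉ C} => ((m.1 : G))) h
    have hzz : z = z' := Subtype.ext (p.eq_of_fix z'.2 z.2 (d := (d : G)) (h' ▸ d'.2) d.2
      fun e => hd (Subtype.ext e))
    subst hzz
    obtain rfl : d = d' := Subtype.ext h'
    rfl
  have hle : Nat.card Z * (ne' - 1) ≤ Nat.card ↥C * ne' - Nat.card ↥C := by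
    have h1 := Nat.card_le_card_of_injective χ hχ
    have hD : ∀ z : Z, Nat.card {d : ↥(pairStab t z.1) // d ≠ 1} = ne' - 1 := fun z => by
      rw [Nat.card_eq_fintype_card, Fintype.card_subtype_compl, Fintype.card_subtype_eq,
        ← Nat.card_eq_fintype_card, p.card_pairStab z.2]
    have hR : Nat.card {m : ↥(envelope t) // (m : G) ∉ C} = Nat.card ↥C * ne' - Nat.card ↥C := by
      rw [Nat.card_eq_fintype_card, Fintype.card_subtype_compl, ← Nat.card_eq_fintype_card,
        ← Nat.card_eq_fintype_card, hcardM]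
      congr 1
      exact (Nat.card_congr ⟨fun m => ⟨(m.1 : G), m.2⟩, fun c => ⟨⟨c.1, hCM c.2⟩, c.2⟩,
        fun _ => rfl, fun _ => rfl⟩)
    rw [Nat.card_sigma, Finset.sum_congr rfl (fun z _ => hD z), Finset.sum_const, smul_eq_mul,
      Finset.card_univ, ← Nat.card_eq_fintype_card, hR] at h1
    exact h1
  have hZC : Nat.card Z ≤ Nat.card ↥C := by
    have : Nat.card ↥C * ne' - Nat.card ↥C = Nat.card ↥C * (ne' - 1) := by
      rw [Nat.mul_sub, mul_one]
    rw [this] at hle
    exact Nat.le_of_mul_le_mul_right hle (by omega)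
  have hψb : Function.Bijective ψ := hψ.bijective_of_nat_card_le hZC
  have hcardΩ : Nat.card ↥C + 1 = Fintype.card (G ⧸ envelope t) := by
    have h1 : Nat.card Z + 1 = Fintype.card (G ⧸ envelope t) := by
      rw [Nat.card_eq_fintype_card, Fintype.card_subtype_compl, Fintype.card_subtype_eq]
      have : 0 < Fintype.card (G ⧸ envelope t) := Fintype.card_pos
      omega
    rw [← h1, Nat.card_eq_of_bijective ψ hψb]
  have htrans : ∀ z : G ⧸ envelope t, z ≠ base t → ∃ c ∈ C, c • y₀ = z := fun z hz => by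
    obtain ⟨c, hc⟩ := hψb.2 ⟨z, hz⟩
    exact ⟨c, c.2, congrArg Subtype.val hc⟩
  -- at least six points
  have hCbig : 3 * ne' ≤ Nat.card ↥C - 3 + 0 := by
    let X := Option {x : G // orderOf x = 2 ∧ x ∈ envelope t}
    let val : X → G := fun o => o.elim 1 Subtype.val
    have hval : ∀ o, val o * t = t * val o ∧ val o * val o = 1 ∧ a * val o = val o * a := by
      rintro (_ | ⟨x, hx, hxM⟩)
      · exact ⟨by simp [val], by simp [val], by simp [val]⟩
      · have hS := p.same_of_mem hx hxM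
        exact ⟨p.same_commute hS p.same_t, involution_sq hx, p.a_comm hS⟩
    have hvi : Function.Injective val := by
      rintro (_ | ⟨x, hx⟩) (_ | ⟨x', hx'⟩) h
      · rfl
      · exact absurd (show x' = 1 from h.symm) (involution_ne_one hx'.1)
      · exact absurd (show x = 1 from h) (involution_ne_one hx.1)
      · exact congrArg _ (Subtype.ext h)
    have hA : ↑(zpowers a) ⊆ (C : Set G) := fun x hx =>
      (zpowers_le.mpr (mem_cent.mpr p.hat) : zpowers a ≤ C) hx
    let θ : X × ↥(zpowers a) → ↥C := fun q =>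
      ⟨val q.1 * q.2, mul_mem (mem_cent.mpr (hval q.1).1) (hA q.2.2)⟩
    have hθ : Function.Injective θ := by
      rintro ⟨x, i⟩ ⟨x', j⟩ h
      have h' : val x * i = val x' * j := congrArg Subtype.val h
      obtain ⟨k, hk⟩ := mem_zpowers_iff.mp i.2
      obtain ⟨l, hl⟩ := mem_zpowers_iff.mp j.2
      have hcx : ∀ o, ∀ z ∈ zpowers a, Commute (val o) z := fun o z hz => by
        obtain ⟨n, rfl⟩ := mem_zpowers_iff.mp hz
        exact (show Commute (val o) a from (hval o).2.2.symm).zpow_right n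
      have h2 : (i : G) * i = j * j := by
        have := congrArg₂ (· * ·) h' h'
        rwa [(hcx x i i.2).symm.mul_mul_mul_comm, (hcx x' j j.2).symm.mul_mul_mul_comm, (hval x).2.1,
          (hval x').2.1, one_mul, one_mul] at this
      have hij : i = j := by
        have h3 : ((i : G) * (j : G)⁻¹) ^ 2 = 1 := by
          have hc : Commute (i : G) (j : G)⁻¹ := by
            rw [← hk, ← hl]; exact ((Commute.refl a).zpow_zpow k l).inv_right
          rw [hc.mul_pow, pow_two, pow_two, h2]; group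
        have h4 : Odd (orderOf ((i : G) * (j : G)⁻¹)) := p.ho.of_dvd_nat
          (orderOf_dvd_of_mem_zpowers (mul_mem i.2 (inv_mem j.2)))
        exact Subtype.ext (mul_inv_eq_one.mp (ZStar.eq_one_of_odd_of_sq h4 h3))
      subst hij
      exact Prod.ext (hvi (mul_right_cancel h')) rfl
    have h5 := Nat.card_le_card_of_injective θ hθ
    rw [Nat.card_prod, Finite.card_option, Nat.card_zpowers, ← hne'] at h5
    have h6 : 3 ≤ orderOf a := by
      have h0 := orderOf_pos a
      have h1 : orderOf a ≠ 1 := fun h => p.ha1 (orderOf_eq_one_iff.mp h)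
      have h2 : orderOf a ≠ 2 := fun h => by
        have := p.ho; rw [h] at this; exact absurd this (by decide)
      omega
    have h7 : (ne' + 1) * 3 ≤ (ne' + 1) * orderOf a := Nat.mul_le_mul_left _ h6
    omega
  -- two-transitivity
  have hto : ∀ z : G ⧸ envelope t, ∃ k : G, k • base t = z := fun z => by
    obtain ⟨k, rfl⟩ := QuotientGroup.mk_surjective z
    exact ⟨k, by rw [MulAction.Quotient.smul_mk, smul_eq_mul, mul_one]⟩
  have hpair : ∀ z z' : G ⧸ envelope t, z ≠ z' → ∃ k : G, k • base t = z ∧ k • y₀ = z' := by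
    intro z z' hzz
    obtain ⟨k, hk⟩ := hto z
    obtain ⟨c, hc, hcy⟩ := htrans (k⁻¹ • z') (fun h => hzz (by rw [← hk, ← h, smul_inv_smul]))
    refine ⟨k * c, ?_, by rw [mul_smul, hcy, smul_inv_smul]⟩
    rw [mul_smul, (fix_base t c).mpr (hCM hc), hk]
  have h2t : MulAction.IsMultiplyPretransitive G (G ⧸ envelope t) 2 := by
    rw [MulAction.is_two_pretransitive_iff]
    intro a b c d hab hcd
    obtain ⟨k, hk1, hk2⟩ := hpair a b hab
    obtain ⟨l, hl1, hl2⟩ := hpair c d hcd
    exact ⟨l * k⁻¹, by rw [mul_smul, ← hk1, inv_smul_smul, hl1],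
      by rw [mul_smul, ← hk2, inv_smul_smul, hl2]⟩
  have hthree : ∀ g : G, ∀ a b c : G ⧸ envelope t, a ≠ b → b ≠ c → a ≠ c →
      g • a = a → g • b = b → g • c = c → g = 1 := by
    intro g a b c hab hbc hac ha hb hc
    by_contra hg1
    obtain ⟨k, hk1, hk2⟩ := hpair a b hab
    have hfix : ∀ z : G ⧸ envelope t, g • z = z → (k⁻¹ * g * k) • (k⁻¹ • z) = k⁻¹ • z := fun z hz => by
      rw [mul_smul, mul_smul, smul_inv_smul, hz]
    have e1 : k⁻¹ • a = base t := by rw [← hk1, inv_smul_smul]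
    have e2 : k⁻¹ • b = y₀ := by rw [← hk2, inv_smul_smul]
    have hb' : k⁻¹ * g * k ∈ pairStab t y₀ :=
      ⟨(fix_base t _).mp (e1 ▸ hfix a ha), e2 ▸ hfix b hb⟩
    have hc' : k⁻¹ * g * k ∈ pairStab t (k⁻¹ • c) := ⟨hb'.1, hfix c hc⟩
    have h1 := p.eq_of_fix hy₀x (fun h => hac (MulAction.injective k⁻¹ (e1.trans h.symm))) hb' hc'
      (fun h => hg1 (by
        calc g = k * (k⁻¹ * g * k) * k⁻¹ := by group
          _ = 1 := by rw [h]; group))
    exact hbc (MulAction.injective k⁻¹ (e2.trans h1.symm))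
  have hfaith : FaithfulSMul G (G ⧸ envelope t) := ⟨fun {g₁ g₂} h => by
    obtain ⟨c, hc⟩ : ∃ c : G ⧸ envelope t, c ≠ base t ∧ c ≠ y₀ := by
      by_contra hno
      push Not at hno
      have : Fintype.card (G ⧸ envelope t) ≤ ({base t, y₀} : Finset _).card :=
        Finset.card_le_card fun z _ => by
          by_cases hz : z = base t
          · simp [hz]
          · simp [hno z hz]
      have := Finset.card_le_two (a := base t) (b := y₀)
      omega
    have := hthree (g₂⁻¹ * g₁) (base t) y₀ c hy₀x.symm hc.2.symm hc.1.symm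
      (by rw [mul_smul, h, inv_smul_smul]) (by rw [mul_smul, h, inv_smul_smul])
      (by rw [mul_smul, h, inv_smul_smul])
    exact (inv_mul_eq_one.mp this).symm⟩
  have hnontriv : ∀ N : Subgroup G, N.Normal → Group.IsSolvable ↥N → N = ⊥ := p.ctx.radical
  -- simplicity
  obtain ⟨w₀, hw₀, hw₀x, hw₀y, hw₀d⟩ := p.swap_inverts hy₀x
  haveI : IsSimpleGroup G := by
    haveI : Nontrivial G := ⟨⟨t, 1, involution_ne_one p.ht⟩⟩
    refine ⟨fun N hN => ?_⟩
    by_contra hcon
    push Not at hcon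
    have hev : Even (Nat.card ↥N) := Nat.not_odd_iff_even.mp fun ho =>
      hcon.1 (p.ctx.radical N hN (p.ctx.ft _ ho))
    obtain ⟨u, huN, hu⟩ := exists_involution_of_even hev
    have hinv : ∀ v : G, orderOf v = 2 → v ∈ N := fun v hv => by
      obtain ⟨k, hk⟩ := isConj_iff.mp (SE.isConj_involutions hSE hu hv)
      exact hk ▸ hN.conj_mem u huN k
    have hD : ∀ d ∈ pairStab t y₀, d ∈ N := fun d hd => by
      have := mul_mem (hinv w₀ hw₀) (hinv _ (hw₀d d hd).2)
      rwa [← mul_assoc, involution_sq hw₀, one_mul] at this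
    obtain ⟨d, hdD, hd1⟩ : ∃ d ∈ pairStab t y₀, d ≠ 1 := by
      by_contra hno
      push Not at hno
      have : Nat.card ↥(pairStab t y₀) ≤ 1 := Finite.card_le_one_iff_subsingleton.mpr
        ⟨fun u v => Subtype.ext ((hno u u.2).trans (hno v v.2).symm)⟩
      rw [p.card_pairStab hy₀x] at this
      omega
    let κ : ↥C → ↥C := fun c => ⟨(c : G) * (d * (c : G)⁻¹ * d⁻¹), mul_mem c.2
      (mem_cent.mpr ((mem_envelope.mp hdD.1 _).mp (mem_cent.mp (inv_mem c.2))))⟩
    have hκ : Function.Injective κ := by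
      intro c c' h
      have h' : (c : G) * (d * (c : G)⁻¹ * d⁻¹) = c' * (d * (c' : G)⁻¹ * d⁻¹) :=
        congrArg Subtype.val h
      have h2 : d * ((c' : G)⁻¹ * c) = (c' : G)⁻¹ * c * d := by
        calc d * ((c' : G)⁻¹ * c) = (c' : G)⁻¹ * (c' * (d * (c' : G)⁻¹ * d⁻¹)) * (d * c) := by group
          _ = (c' : G)⁻¹ * c * d := by rw [← h']; group
      rcases eq_or_ne ((c' : G)⁻¹ * c) 1 with h3 | h3
      · exact Subtype.ext (inv_mul_eq_one.mp h3).symm
      · exact absurd (p.comm_eq_one hy₀x hdD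
          (p.cent_sub (mem_cent.mp (mul_mem (inv_mem c'.2) c.2)) h3 h2)) hd1
    have hCN : ∀ c ∈ C, c ∈ N := fun c hc => by
      obtain ⟨⟨c', hc'⟩, h⟩ := (hκ.bijective_of_nat_card_le le_rfl).2 ⟨c, hc⟩
      have h' : c' * (d * c'⁻¹ * d⁻¹) = c := congrArg Subtype.val h
      rw [← h', show c' * (d * c'⁻¹ * d⁻¹) = (c' * d * c'⁻¹) * d⁻¹ by group]
      exact mul_mem (hN.conj_mem d (hD d hdD) c') (inv_mem (hD d hdD))
    refine hcon.2 (eq_top_iff.mpr fun k _ => ?_)
    have hMN : ∀ m ∈ envelope t, m ∈ N := fun m hm => by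
      obtain ⟨c, d', hc, hd', rfl⟩ := p.exists_decomp hy₀x hm
      exact mul_mem (hCN c (mem_cent.mpr hc)) (hD d' hd')
    by_cases hk : k ∈ envelope t
    · exact hMN k hk
    obtain ⟨w, hw, hwx, hwy, -⟩ := p.swap_inverts (y := k • base t)
      (fun h => hk ((fix_base t k).mp h))
    have := mul_mem (hinv w hw) (hMN (w * k) ((fix_base t _).mp (by rw [mul_smul, hwy])))
    rwa [← mul_assoc, involution_sq hw, one_mul] at this
  have hZ : Cfsg.IsZassenhausGroup G (G ⧸ envelope t) := by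
    refine ⟨hfaith, h2t, hthree, ?_, fun N hN htr => ?_⟩
    · haveI : Nontrivial ↥(pairStab t y₀) := Finite.one_lt_card_iff_nontrivial.mp
        (by rw [p.card_pairStab hy₀x]; omega)
      obtain ⟨⟨d, hd⟩, hd1⟩ := exists_ne (1 : ↥(pairStab t y₀))
      exact ⟨d, fun h => hd1 (Subtype.ext h), base t, y₀, hy₀x.symm, (fix_base t d).mpr hd.1, hd.2⟩
    · rcases hN.eq_bot_or_eq_top with rfl | rfl
      · exfalso
        obtain ⟨k, hk⟩ := htr.exists_smul_eq (base t) y₀
        apply hy₀x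
        rw [← hk]
        show ((k : G) • base t) = base t
        rw [Subgroup.mem_bot.mp k.2, one_smul]
      · exact ⟨base t, fun h => involution_ne_one p.ht (by
          have h1 : (⟨t, mem_top t⟩ : (⊤ : Subgroup G)) ∈
              MulAction.stabilizer (⊤ : Subgroup G) (base t) :=
            (fix_base t t).mpr (hCM (mem_cent.mpr rfl))
          exact congrArg Subtype.val (mem_bot.mp (h.le h1)))⟩
  have hE : Nat.card ↥(MulAction.stabilizer G (base t) ⊓ MulAction.stabilizer G y₀ : Subgroup G) =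
      ne' := by
    rw [hne', ← p.card_pairStab hy₀x]
    congr 2
    ext k
    simp only [Subgroup.mem_inf, MulAction.mem_stabilizer_iff, fix_base]
  have hodd : Odd ne' := by
    rw [← hE, ← Nat.not_even_iff_odd]
    intro hev
    obtain ⟨u, hu, hu2⟩ := exists_involution_of_even hev
    have := SE.odd_orderOf_of_fixes hSE hy₀x.symm hu.1 hu.2
    rw [hu2] at this
    exact absurd this (by decide)
  rcases CfsgLib.Perm.zass_kernel_bound hZ hy₀x.symm (H := C) (by rw [hE]; exact hodd)
      (fun c hc => (fix_base t c).mpr (hCM hc)) hcardΩ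
      (fun u hu hu1 z hz => by_contra fun hzx => hu1 (hsemi u hu z hzx hz)) with hb | ⟨hp, -⟩
  · rw [hE] at hb
    omega
  · obtain ⟨k, hk⟩ := IsPGroup.iff_orderOf.mp hp ⟨a, mem_cent.mpr p.hat⟩
    rw [Subgroup.orderOf_mk] at hk
    rcases Nat.eq_zero_or_pos k with rfl | hk0
    · exact p.ha1 (orderOf_eq_one_iff.mp hk)
    · have := p.ho
      rw [hk] at this
      exact Nat.not_odd_iff_even.mpr (Nat.even_pow.mpr ⟨even_two, hk0.ne'⟩) this

end Pair

/-- An involution is the only involution centralising a non-trivial element of odd order of its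
centraliser. -/
theorem Ctx.unique_inv (h : Ctx G) {t e a : G} (ht : orderOf t = 2) (he : orderOf e = 2)
    (hat : a * t = t * a) (hae : a * e = e * a) (ho : Odd (orderOf a)) (ha1 : a ≠ 1) : e = t :=
  by_contra fun hne => Pair.false ⟨h, ht, he, hne, hat, hae, ho, ha1⟩

end CfsgLib.EvenCyclic
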