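import Cfsg.Agent.Lib.OddGated5.EvenCyclic.Dihedral
import Cfsg.Agent.Lib.CIT.Simple
import Cfsg.Agent.Lib.PGroups.SuzukiZass.Main
import Cfsg.Agent.Lib.Known.AutPSL.Root

/-!
# The simple groups with the normaliser property
-/

set_option autoImplicit false
set_option linter.all false

namespace CfsgLib.EvenCyclic

open Subgroup CfsgLib.Signalizer

universe u

variable {G : Type u} [Group G] [Finite G]

/-- The kernel of a Suzuki-type Zassenhaus group violates the hypothesis. -/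
theorem not_kern {Ω : Type*} [MulAction G Ω] [Fintype Ω] [IsSimpleGroup G] (hyp : Ctx G)
    {H : Subgroup G} {a b : Ω} {m : ℕ} (K : PGroups.SuzukiZass.Kern H a b m) : False := by
  obtain ⟨-, -, ⟨⟨x, hx⟩, ⟨y, hy⟩, hxy'⟩, ⟨i, j, hij, hi1, hi, hj1, hj⟩, A, -, hA⟩ := K.suzuki
  have hxy : x * y ≠ y * x := fun e => hxy' (Subtype.ext e)
  have hi' : (i : G) * i = 1 := congrArg Subtype.val hi
  -- non-involutions
  have hsq : ∀ u ∈ H, ∀ v ∈ H, u * v ≠ v * u → u * u ≠ 1 := fun u hu v hv huv h =>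
    huv (K.inv_central u hu h v hv)
  -- commutators lie in `{1, u²}`
  have hcomm : ∀ u ∈ H, u * u ≠ 1 → ∀ v ∈ H, v * u * v⁻¹ * u⁻¹ = 1 ∨ v * u * v⁻¹ = u * (u * u) := by
    intro u hu hu2 v hv
    have h4 := K.sq_inv u hu
    have h2 := orderOf_eq_two_of hu2 h4
    have hcen := K.inv_central (u * u) (mul_mem hu hu) h4 v hv
    obtain ⟨k, hk⟩ := mem_zpowers_iff.mp
      (hyp.conj_mem h2 (mul_mem (mem_zpowers u) (mem_zpowers u)) hcen.symm)
    have hz4 : u ^ (4 : ℤ) = 1 := by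
      rw [show (4 : ℤ) = 2 + 2 from rfl, zpow_add, zpow_ofNat, pow_two, h4]
    have hk4 : v * u * v⁻¹ = u ^ (k % 4) := by
      rw [← hk]
      conv_lhs => rw [← Int.emod_add_mul_ediv k 4, zpow_add, zpow_mul, hz4, one_zpow, mul_one]
    have hsqv : (v * u * v⁻¹) * (v * u * v⁻¹) = u * u := by
      rw [show v * u * v⁻¹ * (v * u * v⁻¹) = v * (u * u) * v⁻¹ by group, ← hcen, mul_inv_cancel_right]
    rcases (by omega : k % 4 = 0 ∨ k % 4 = 1 ∨ k % 4 = 2 ∨ k % 4 = 3) with e | e | e | e <;>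
      rw [e] at hk4
    · rw [hk4, zpow_zero, one_mul] at hsqv; exact absurd hsqv.symm hu2
    · left; rw [hk4, zpow_one, mul_inv_cancel]
    · rw [hk4, ← zpow_add, show (2 : ℤ) + 2 = 4 from rfl, hz4] at hsqv; exact absurd hsqv.symm hu2
    · right; rw [hk4, show (3 : ℤ) = 1 + 2 from rfl, zpow_add, zpow_one, zpow_ofNat, pow_two]
  -- non-commuting elements have the same square
  have hsame : ∀ u ∈ H, ∀ v ∈ H, u * v ≠ v * u → u * u = v * v := by
    intro u hu v hv huv
    have hu2 := hsq u hu v hv huv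
    have hv2 := hsq v hv u hu (Ne.symm huv)
    rcases hcomm u hu hu2 v hv with h1 | h1
    · exact absurd (mul_inv_eq_iff_eq_mul.mp (mul_inv_eq_one.mp h1)).symm huv
    rcases hcomm v hv hv2 u hu with h2 | h2
    · exact absurd (mul_inv_eq_iff_eq_mul.mp (mul_inv_eq_one.mp h2)) huv
    have e1 : v * u * v⁻¹ * u⁻¹ = u * u := by rw [h1]; group
    have e2 : u * v * u⁻¹ * v⁻¹ = v * v := by rw [h2]; group
    have e3 : (u * v * u⁻¹ * v⁻¹)⁻¹ = v * u * v⁻¹ * u⁻¹ := by group
    rw [e1, e2, inv_eq_of_mul_eq_one_right (K.sq_inv v hv)] at e3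
    exact e3.symm
  have hxx := hsame x hx y hy hxy
  -- every square is `1` or `x²`
  have hall : ∀ k ∈ H, k * k = 1 ∨ k * k = x * x := by
    intro k hk
    by_contra hno
    push Not at hno
    have hkx : k * x = x * k := by_contra fun h => hno.2 (hsame k hk x hx h)
    have hky : k * y = y * k := by_contra fun h => hno.2 ((hsame k hk y hy h).trans hxx.symm)
    have hne : (k * x) * y ≠ y * (k * x) := fun h => hxy (mul_left_cancel (a := k) (by
      rw [← mul_assoc, h, ← mul_assoc, ← hky, mul_assoc]))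
    have h := hsame (k * x) (mul_mem hk hx) y hy hne
    rw [(show Commute k x from hkx).symm.mul_mul_mul_comm, ← hxx] at h
    exact hno.1 (mul_eq_right.mp h)
  -- every involution is a square
  have hsquare : ∀ l : ↥H, l ≠ 1 → l * l = 1 → (l : G) = x * x := by
    intro l hl1 hl
    have hx2 : (⟨x, hx⟩ : ↥H) * ⟨x, hx⟩ ≠ 1 := fun e =>
      hsq x hx y hy hxy (congrArg Subtype.val e)
    obtain ⟨k, hk, -⟩ := hA _ l hx2 (Subtype.ext (K.sq_inv x hx)) hl1 hl
    rw [map_mul] at hk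
    have h1 := hall _ ((k : MulAut ↥H) ⟨x, hx⟩).2
    rw [show ((((k : MulAut ↥H) ⟨x, hx⟩ : ↥H) : G) * ((k : MulAut ↥H) ⟨x, hx⟩ : ↥H)) = (l : G) from
      congrArg Subtype.val hk] at h1
    exact h1.resolve_left fun e => hl1 (Subtype.ext e)
  exact hij (Subtype.ext ((hsquare i hi1 hi).trans (hsquare j hj1 hj).symm))

/-- `PSL(3, 4)` violates the hypothesis. -/
theorem not_psl_three_four (hyp : Hyp G) (h : CIT.IsPSLThreeFour G) : False := by
  obtain ⟨F, iF, iFt, hF, ⟨e⟩⟩ := h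
  classical
  haveI : CharP F 2 := by
    haveI := Fact.mk Nat.prime_two
    exact charP_of_card_eq_prime_pow (f := 2) (by rw [hF]; norm_num)
  obtain ⟨c, hc0, hc1⟩ : ∃ c : F, c ≠ 0 ∧ c ≠ 1 := by
    by_contra hno
    push Not at hno
    have : Fintype.card F ≤ ({0, 1} : Finset F).card := Finset.card_le_card fun z _ => by
      by_cases hz : z = 0
      · simp [hz]
      · simp [hno z hz]
    have := Finset.card_le_two (a := (0 : F)) (b := 1)
    omega
  let mk : F → F → F → Matrix.SpecialLinearGroup (Fin 3) F := fun p q r =>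
    ⟨!![1, p, r; 0, 1, q; 0, 0, 1], by simp [Matrix.det_fin_three]⟩
  have hmul : ∀ p q r p' q' r', mk p q r * mk p' q' r' = mk (p + p') (q + q') (r + p * q' + r') := by
    intro p q r p' q' r'
    refine Subtype.ext ?_
    show !![1, p, r; 0, 1, q; 0, 0, 1] * !![1, p', r'; 0, 1, q'; 0, 0, 1] = !![1, p + p', r + p * q' + r'; 0, 1, q + q'; 0, 0, 1]
    ext i j; fin_cases i <;> fin_cases j <;> simp [Matrix.mul_apply, Fin.sum_univ_three] <;> ring
  set π := (e.symm.toMonoidHom.comp (CfsgLib.Known.AutPSL.proj 3 F)) with hπ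
  have hinj : ∀ p q r p' q' r', π (mk p q r) = π (mk p' q' r') → p = p' ∧ q = q' ∧ r = r' := by
    intro p q r p' q' r' h
    obtain ⟨d, -, hd⟩ := (CfsgLib.Known.AutPSL.proj_eq_iff _ _).mp (e.symm.injective h)
    have e00 := congrFun (congrFun hd 0) 0
    have e01 := congrFun (congrFun hd 0) 1
    have e12 := congrFun (congrFun hd 1) 2
    have e02 := congrFun (congrFun hd 0) 2
    simp [mk] at e00 e01 e12 e02
    subst e00
    simp at e01 e12 e02
    exact ⟨e01.symm, e12.symm, e02.symm⟩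
  have h1 : π (mk 0 0 0) = 1 := by
    rw [show mk 0 0 0 = 1 from Subtype.ext (by ext i j; fin_cases i <;> fin_cases j <;> simp [mk]), map_one]
  have h2F : (1 : F) + 1 = 0 := CharTwo.add_self_eq_zero 1
  set x := π (mk 1 1 0) with hx
  set y := π (mk c 0 0) with hy
  set v := π (mk 0 0 1) with hv
  have hxx : x * x = v := by
    rw [hx, hv, ← map_mul, hmul, h2F, zero_add, one_mul, add_zero]
  have hv2 : orderOf v = 2 := by
    refine orderOf_eq_two_of (fun h => ?_) ?_
    · exact one_ne_zero (hinj _ _ _ _ _ _ (h.trans h1.symm)).2.2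
    · rw [hv, ← map_mul, hmul, add_zero, mul_zero, add_zero, h2F, h1]
  have hyv : y * v = v * y := by
    rw [hy, hv, ← map_mul, ← map_mul, hmul, hmul]; simp
  have hvx : v ∈ zpowers x := hxx ▸ mul_mem (mem_zpowers x) (mem_zpowers x)
  have hx1 : x ≠ 1 := fun h => involution_ne_one hv2 (by rw [← hxx, h, one_mul])
  have hconj : y * x * y⁻¹ = π (mk 1 1 c) := by
    rw [mul_inv_eq_iff_eq_mul, hx, hy, ← map_mul, ← map_mul, hmul, hmul]
    congr 1
    refine Subtype.ext ?_
    ext i j; fin_cases i <;> fin_cases j <;> simp [mk, add_comm]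
  have hmem : y * x * y⁻¹ ∈ zpowers x := by
    have hy' : y ∈ normalizer (zpowers x : Set G) := by
      have h1 := hyp (zpowers x) inferInstance
        (even_iff_two_dvd.mpr (hv2 ▸ Subgroup.orderOf_dvd_natCard _ hvx)) (zpowers v)
        (zpowers_le.mpr hvx) (zpowers_ne_bot.mpr (involution_ne_one hv2))
      rw [h1, normalizer_zpowers_involution hv2]
      exact mem_cent.mpr hyv
    exact (mem_normalizer_iff.mp hy' x).mp (mem_zpowers x)
  obtain ⟨k, hk⟩ := mem_zpowers_iff.mp hmem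
  have hz4 : x ^ (4 : ℤ) = 1 := by
    rw [show (4 : ℤ) = 2 + 2 from rfl, zpow_add, zpow_ofNat, pow_two, hxx, involution_sq hv2]
  have hk4 : y * x * y⁻¹ = x ^ (k % 4) := by
    rw [← hk]
    conv_lhs => rw [← Int.emod_add_mul_ediv k 4, zpow_add, zpow_mul, hz4, one_zpow, mul_one]
  rw [hconj] at hk4
  rcases (by omega : k % 4 = 0 ∨ k % 4 = 1 ∨ k % 4 = 2 ∨ k % 4 = 3) with e | e | e | e <;>
    rw [e] at hk4
  · rw [zpow_zero, ← h1] at hk4; exact one_ne_zero (hinj _ _ _ _ _ _ hk4).1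
  · rw [zpow_one, hx] at hk4; exact hc0 (hinj _ _ _ _ _ _ hk4).2.2
  · rw [zpow_ofNat, pow_two, hxx, hv] at hk4; exact one_ne_zero (hinj _ _ _ _ _ _ hk4).1
  · rw [show (3 : ℤ) = 1 + 2 from rfl, zpow_add, zpow_one, zpow_ofNat, pow_two, hxx, hx, hv,
      ← map_mul, hmul] at hk4
    exact hc1 (by simpa using (hinj _ _ _ _ _ _ hk4).2.2)

/-- The non-TI half of the classification of simple CIT groups. -/
theorem non_ti [IsSimpleGroup G] (hna : ¬ IsMulCommutative G) (hC : CIT.CIT G) (h2 : 2 ∣ Nat.card G)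
    (hTI : ¬ CIT.TISylow G) : CIT.IsPSLTwoCIT G ∨ CIT.IsPSLThreeFour G := by
  have hL := CIT.localTI hC
  obtain ⟨T, W, A, q, h⟩ := CIT.exists_pair hC (CIT.simple_noCore hna) hL hTI
  have hq4 := h.q_le_four hC hL
  have hq1 := h.left.one_lt
  obtain ⟨j, hj⟩ := (h.left.syl.2.1.to_le (inf_le_left.trans h.le_T.2 : A ⊓ W ≤ T)).exists_card_eq
  rw [h.card_inter] at hj
  obtain rfl | rfl : q = 2 ∨ q = 4 := by
    have : q ≠ 3 := fun e => by
      rcases Nat.eq_zero_or_pos j with rfl | hpos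
      · norm_num at hj; omega
      · have : 2 ∣ q := hj ▸ dvd_pow_self 2 hpos.ne'
        omega
    omega
  · exact Or.inl (CIT.simple_pair_two hna hC h)
  · exact Or.inr (CIT.Four.isPSLThreeFour ⟨hC, hL, h, h.sylow_of_simple hna hC hL⟩)

/-- A simple group with the property is `PSL(2, q)`. -/
theorem simple_psl [IsSimpleGroup G] (hG : ¬ IsMulCommutative G) (h : Ctx G) :
    ∃ (F : Type) (_ : Field F) (_ : Fintype F),
      Nonempty (G ≃* Matrix.ProjectiveSpecialLinearGroup (Fin 2) F) := by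
  by_cases hW : ∃ t a : G, orderOf t = 2 ∧ a * t = t * a ∧ Odd (orderOf a) ∧ a ≠ 1
  · obtain ⟨t, a, ht, hat, ho, ha1⟩ := hW
    obtain ⟨F, iF, iFt, -, he⟩ := (Wit.mk h ht hat ho ha1).exists_psl hG
    exact ⟨F, iF, iFt, he⟩
  push Not at hW
  have h2 : 2 ∣ Nat.card G := by
    by_contra hodd
    have hsol := h.ft G (Nat.odd_iff.mpr (Nat.two_dvd_ne_zero.mp hodd))
    haveI : Nontrivial G := IsSimpleGroup.toNontrivial
    haveI : Group.IsSolvable ↥(⊤ : Subgroup G) :=
      Group.isSolvable_of_surjective (f := (topEquiv (G := G)).symm.toMonoidHom) topEquiv.symm.surjective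
    exact top_ne_bot (h.radical ⊤ inferInstance inferInstance)
  have hC : CIT.CIT G := fun t ht => by
    refine IsPGroup.iff_card.mpr ⟨(Nat.card ↥(centralizer ({t} : Set G))).primeFactorsList.length, ?_⟩
    refine Nat.eq_prime_pow_of_unique_prime_dvd Nat.card_pos.ne' ?_
    intro q hq hqd
    haveI := Fact.mk hq
    by_contra hq2
    obtain ⟨⟨b, hb⟩, hbo⟩ := exists_prime_orderOf_dvd_card' q hqd
    rw [Subgroup.orderOf_mk] at hbo
    have := hW t b ht (mem_cent.mp hb) (hbo ▸ hq.odd_of_ne_two hq2)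
    rw [this, orderOf_one] at hbo
    exact hq.ne_one hbo.symm
  by_cases hTI : CIT.TISylow G
  · obtain ⟨T, hZ⟩ := CIT.simple_ti_zassenhaus hG hC h2 hTI
    haveI := Fintype.ofFinite (G ⧸ normalizer (T : Set G))
    rcases PGroups.SuzukiZass.classify_kern hZ with h' | ⟨H, a, b, m, K⟩
    · exact h'
    · exact (not_kern h K).elim
  rcases non_ti hG hC h2 hTI with ⟨F, iF, iFt, -, he⟩ | h'
  · exact ⟨F, iF, iFt, he⟩
  · exact (not_psl_three_four h.hyp h').elim

end CfsgLib.EvenCyclic
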